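import Groth.Agent.FittLib.Basic

/-!
# Fitting ideals: local generation, quotients by torsion, products, locally free modules
-/

universe u v w

open Finset Matrix TensorProduct

namespace Groth.Agent.FittLib

variable {R : Type u} [CommRing R] {M : Type v} [AddCommGroup M] [Module R M]

section Cramer

variable {ι κ : Type*} [Fintype κ] [DecidableEq κ]

/-- The relation obtained from a square minor by Cramer's rule. -/
def cramerRel (z : κ → ι → R) (e : κ → ι) (a : κ) : ι → R :=
  ∑ b, adjugate (Matrix.of fun a b => z b (e a)) b a • z b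

theorem cramerRel_mem {S : Submodule R (ι → R)} (z : κ → ι → R) (hz : ∀ b, z b ∈ S) (e : κ → ι) (a : κ) :
    cramerRel z e a ∈ S :=
  Submodule.sum_mem _ fun b _ => Submodule.smul_mem _ _ (hz b)

theorem cramerRel_apply (z : κ → ι → R) (e : κ → ι) (a : κ) (i : ι) :
    cramerRel z e a i = (Matrix.of fun c b => z b (Function.update e a i c)).det := by
  have h : (Matrix.of fun c b => z b (Function.update e a i c)) =
      (Matrix.of fun c b => z b (e c)).updateRow a fun b => z b i := by
    ext c b
    by_cases hc : c = a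
    · subst hc; simp
    · simp [hc]
  rw [h, det_eq_sum_mul_adjugate_row _ a, cramerRel, Finset.sum_apply]
  refine Finset.sum_congr rfl fun b _ => ?_
  rw [updateRow_self, adjugate_apply, adjugate_apply, updateRow_idem, Pi.smul_apply, smul_eq_mul, mul_comm]

theorem cramerRel_apply_self (z : κ → ι → R) (e : κ → ι) (a c : κ) :
    cramerRel z e a (e c) = if c = a then (Matrix.of fun a b => z b (e a)).det else 0 := by
  have := congrFun (congrFun (mul_adjugate (Matrix.of fun a b => z b (e a))) c) a
  simp only [Matrix.mul_apply, Matrix.smul_apply, Matrix.one_apply, smul_eq_mul, mul_ite, mul_one, mul_zero,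
    Matrix.of_apply] at this
  rw [← this, cramerRel, Finset.sum_apply]
  simp [mul_comm]

end Cramer

section Torsion

variable {n : ℕ}

theorem pow_mem_ideal_quotient (x : Fin n → M) (hx : Submodule.span R (Set.range x) = ⊤) (k : ℕ) (g a : R)
    {S : Set (Fin n → R)} (hS : S ⊆ (rels R x : Set (Fin n → R)))
    (hdvd : ∀ d ∈ minorsOf S (n - k), a ∣ g * d) (N : Submodule R M)
    (hN : ∀ m : M, a • m = 0 → m ∈ N) (z : Fin (n - k) → Fin n → R) (hz : ∀ j, z j ∈ S)
    (e : Fin (n - k) → Fin n) (he : Function.Injective e) (α : R)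
    (hα : g * (Matrix.of fun a b => z b (e a)).det = a * α) :
    α ^ (n - k) ∈ Fitt.ideal R (M ⧸ N) k := by
  have hc : ∀ c i, ∃ t, g * cramerRel z e c i = a * t := fun c i => by
    rw [cramerRel_apply]
    exact hdvd _ (det_mem_of_card (S := S) z hz (Function.update e c i) (Fintype.card_fin (n - k)))
  choose t ht using hc
  let w : Fin (n - k) → Fin n → R := fun c => Function.extend e (Pi.single c α) (t c)
  have hwe : ∀ c c', w c (e c') = (Pi.single c α : Fin (n - k) → R) c' := fun c c' => he.extend_apply _ _ _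
  have hgw : ∀ c i, g * cramerRel z e c i = a * w c i := by
    intro c i
    by_cases hi : ∃ c', e c' = i
    · obtain ⟨c', rfl⟩ := hi
      rw [hwe, cramerRel_apply_self]
      by_cases hcc : c' = c
      · subst hcc; simpa using hα
      · simp [hcc]
    · rw [ht]
      simp [w, Function.extend_apply' _ _ _ hi]
  rw [ideal_eq (N.mkQ ∘ x) (span_range_comp_eq_top _ N.mkQ_surjective x hx)]
  refine Ideal.subset_span ⟨w, e, fun c => mem_rels.2 ?_, ?_⟩
  · have h0 : a • ∑ i, w c i • x i = 0 := by
      simp only [Finset.smul_sum, smul_smul, ← hgw]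
      simp only [← smul_smul, ← Finset.smul_sum]
      rw [mem_rels.1 (cramerRel_mem z (fun b => hS (hz b)) e c), smul_zero]
    rw [show ∑ i, w c i • (N.mkQ ∘ x) i = N.mkQ (∑ i, w c i • x i) by simp [map_sum]]
    exact (Submodule.Quotient.mk_eq_zero N).2 (hN _ h0)
  · have : (Matrix.of fun c b => w b (e c)) = Matrix.diagonal fun _ => α := by
      ext c b
      simp [hwe, Matrix.diagonal_apply, Pi.single_apply]
    rw [this]
    simp

/-- If all `g`-multiples of the minors are multiples of `a`, their quotients lie in the radical of the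
Fitting ideal of any quotient killing the `a`-torsion. -/
theorem exists_radical_ideal_quotient (x : Fin n → M) (hx : Submodule.span R (Set.range x) = ⊤) (k : ℕ) (g a : R)
    {S : Set (Fin n → R)} (hS : S ⊆ (rels R x : Set (Fin n → R)))
    (hdvd : ∀ d ∈ minorsOf S (n - k), a ∣ g * d) (N : Submodule R M)
    (hN : ∀ m : M, a • m = 0 → m ∈ N) {y : R} (hy : y ∈ minorsOf S (n - k)) :
    ∃ α ∈ (Fitt.ideal R (M ⧸ N) k).radical, g * y = a * α := by
  induction hy using Submodule.span_induction with
  | mem d hd =>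
    obtain ⟨z, e, hz, rfl⟩ := hd
    by_cases he : Function.Injective e
    · obtain ⟨α, hα⟩ := hdvd _ (Ideal.subset_span ⟨z, e, hz, rfl⟩)
      exact ⟨α, ⟨_, pow_mem_ideal_quotient x hx k g a hS hdvd N hN z hz e he α hα⟩, hα⟩
    · exact ⟨0, zero_mem _, by simp [det_eq_zero_of_not_injective z e he]⟩
  | zero => exact ⟨0, zero_mem _, by simp⟩
  | add p q _ _ hp hq =>
    obtain ⟨α, hα, hα'⟩ := hp
    obtain ⟨β, hβ, hβ'⟩ := hq
    exact ⟨α + β, add_mem hα hβ, by rw [mul_add, hα', hβ', mul_add]⟩
  | smul c p _ hp =>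
    obtain ⟨α, hα, hα'⟩ := hp
    exact ⟨c * α, Ideal.mul_mem_left _ c hα, by rw [smul_eq_mul, mul_left_comm, hα', mul_left_comm]⟩

theorem ideal_quotient_eq_top [Module.Finite R M] (k : ℕ) {a : R} (ha0 : a ∈ nonZeroDivisors R)
    (ha : a ∈ Fitt.ideal R M k) (hle : Fitt.ideal R M k ≤ Ideal.span {a}) (N : Submodule R M)
    (hN : ∀ m : M, a • m = 0 → m ∈ N) : Fitt.ideal R (M ⧸ N) k = ⊤ := by
  obtain ⟨n, x, hx⟩ := exists_generators R M
  rw [ideal_eq x hx] at ha hle
  obtain ⟨α, hα, hα'⟩ := exists_radical_ideal_quotient x hx k 1 a Set.Subset.rfl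
    (fun d hd => by rw [one_mul]; exact Ideal.mem_span_singleton.1 (hle hd)) N hN ha
  rw [one_mul] at hα'
  have h1 : α = 1 := (mul_cancel_left_mem_nonZeroDivisors ha0).1 (by rw [mul_one]; exact hα'.symm)
  rw [h1, ← Ideal.eq_top_iff_one, Ideal.radical_eq_top] at hα
  exact hα

end Torsion

section Spanning

theorem exists_card_le_smul_mem_span {n : ℕ} (x : Fin n → M) (hx : Submodule.span R (Set.range x) = ⊤) (k : ℕ)
    (z : Fin (n - k) → Fin n → R) (hz : ∀ j, z j ∈ rels R x) (e : Fin (n - k) → Fin n) (he : Function.Injective e) :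
    ∃ s : Finset (Fin n), s.card ≤ k ∧
      ∀ m : M, (Matrix.of fun a b => z b (e a)).det • m ∈ Submodule.span R (x '' (s : Set (Fin n))) := by
  refine ⟨(univ.image e)ᶜ, ?_, fun m => ?_⟩
  · rw [card_compl, card_image_of_injective _ he]
    simp
    omega
  have hm : m ∈ Submodule.span R (Set.range x) := hx ▸ Submodule.mem_top
  induction hm using Submodule.span_induction with
  | mem m hm =>
    obtain ⟨i, rfl⟩ := hm
    by_cases hi : i ∈ univ.image e
    · obtain ⟨c, -, rfl⟩ := mem_image.1 hi
      have h := mem_rels.1 (cramerRel_mem z hz e c)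
      rw [← Finset.sum_add_sum_compl (univ.image e), Finset.sum_image fun a _ b _ h => he h] at h
      simp only [cramerRel_apply_self, ite_smul, zero_smul, Finset.sum_ite_eq', mem_univ, if_true] at h
      rw [eq_neg_of_add_eq_zero_left h]
      exact neg_mem (Submodule.sum_mem _ fun j hj =>
        Submodule.smul_mem _ _ (Submodule.subset_span ⟨j, hj, rfl⟩))
    · exact Submodule.smul_mem _ _ (Submodule.subset_span ⟨i, by simpa using hi, rfl⟩)
  | zero => simp
  | add p q _ _ hp hq => rw [smul_add]; exact add_mem hp hq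
  | smul c p _ hp => rw [smul_comm]; exact Submodule.smul_mem _ _ hp

theorem exists_fin_span_of_card_le {ι : Type*} (y : ι → M) (s : Finset ι) {k : ℕ} (hs : s.card ≤ k) :
    ∃ g : Fin k → M, Submodule.span R (y '' (s : Set ι)) ≤ Submodule.span R (Set.range g) := by
  refine ⟨fun i => if h : (i : ℕ) < s.card then y (s.equivFin.symm ⟨i, h⟩) else 0, Submodule.span_mono ?_⟩
  rintro _ ⟨j, hj, rfl⟩
  exact ⟨⟨s.equivFin ⟨j, hj⟩, lt_of_lt_of_le (Fin.is_lt _) hs⟩, by simp⟩

/-- If the Fitting ideal is not contained in `p`, an element outside `p` multiplies the module into the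
span of `k` elements. -/
theorem exists_not_mem_smul_mem_span [Module.Finite R M] {k : ℕ} {p : Ideal R} (h : ¬ Fitt.ideal R M k ≤ p) :
    ∃ (D : R) (g : Fin k → M), D ∉ p ∧ ∀ m : M, D • m ∈ Submodule.span R (Set.range g) := by
  obtain ⟨n, x, hx⟩ := exists_generators R M
  rw [ideal_eq x hx, minorsOf, Ideal.span_le, Set.not_subset] at h
  obtain ⟨_, ⟨z, e, hz, rfl⟩, hD⟩ := h
  have he : Function.Injective e := by
    by_contra he
    rw [det_eq_zero_of_not_injective z e he] at hD
    exact hD (zero_mem _)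
  obtain ⟨s, hs, hsm⟩ := exists_card_le_smul_mem_span x hx k z hz e he
  obtain ⟨g, hg⟩ := exists_fin_span_of_card_le (R := R) x s hs
  exact ⟨_, g, hD, fun m => hg (hsm m)⟩

theorem exists_span_localizedModule {k : ℕ} {S : Submonoid R} {D : R} (hD : D ∈ S) (g : Fin k → M)
    (h : ∀ m : M, D • m ∈ Submodule.span R (Set.range g)) :
    Submodule.span (Localization S) (Set.range (LocalizedModule.mkLinearMap S M ∘ g)) = ⊤ := by
  refine Submodule.eq_top_iff'.2 fun y => ?_
  obtain ⟨⟨m, s⟩, rfl⟩ := IsLocalizedModule.mk'_surjective S (LocalizedModule.mkLinearMap S M) y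
  have hu := IsLocalization.map_units (Localization S) (s * ⟨D, hD⟩)
  rw [← Submodule.smul_mem_iff_of_isUnit _ hu]
  have hm := Submodule.mem_map_of_mem (f := LocalizedModule.mkLinearMap S M) (h m)
  rw [Submodule.map_span, ← Set.range_comp, map_smul] at hm
  have := Submodule.span_le_restrictScalars R (Localization S) _ hm
  rw [Submodule.restrictScalars_mem] at this
  convert this using 1
  rw [algebraMap_smul, Function.uncurry_apply_pair, Submonoid.coe_mul, mul_comm, mul_smul]
  congr 1
  exact IsLocalizedModule.mk'_cancel' _ m s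

theorem exists_span_of_ideal_eq_top [IsLocalRing R] [Module.Finite R M] {k : ℕ} (h : Fitt.ideal R M k = ⊤) :
    ∃ g : Fin k → M, Submodule.span R (Set.range g) = ⊤ := by
  obtain ⟨D, g, hD, hg⟩ := exists_not_mem_smul_mem_span (p := IsLocalRing.maximalIdeal R)
    (fun hle => (IsLocalRing.maximalIdeal.isMaximal R).ne_top (top_le_iff.1 (h ▸ hle)))
  refine ⟨g, Submodule.eq_top_iff'.2 fun m => ?_⟩
  exact (Submodule.smul_mem_iff_of_isUnit _ (IsLocalRing.notMem_maximalIdeal.1 hD)).1 (hg m)

theorem exists_away_span_of_not_le [Module.Finite R M] {k : ℕ} {p : Ideal R} (h : ¬ Fitt.ideal R M k ≤ p) :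
    ∃ f : R, f ∉ p ∧ ∃ g : Fin k → LocalizedModule (Submonoid.powers f) M,
      Submodule.span (Localization.Away f) (Set.range g) = ⊤ := by
  obtain ⟨D, g, hD, hg⟩ := exists_not_mem_smul_mem_span h
  exact ⟨D, hD, _, exists_span_localizedModule (Submonoid.mem_powers D) g hg⟩

theorem exists_span_atPrime_of_not_le [Module.Finite R M] {k : ℕ} {p : Ideal R} [p.IsPrime]
    (h : ¬ Fitt.ideal R M k ≤ p) :
    ∃ g : Fin k → LocalizedModule p.primeCompl M,
      Submodule.span (Localization.AtPrime p) (Set.range g) = ⊤ := by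
  obtain ⟨D, g, hD, hg⟩ := exists_not_mem_smul_mem_span h
  exact ⟨_, exists_span_localizedModule (S := p.primeCompl) hD g hg⟩

theorem not_le_of_span_localizedModule [Module.Finite R M] {k : ℕ} {S : Submonoid R} {p : Ideal R} [p.IsPrime]
    (hS : Disjoint (S : Set R) (p : Set R)) (g : Fin k → LocalizedModule S M)
    (hg : Submodule.span (Localization S) (Set.range g) = ⊤) : ¬ Fitt.ideal R M k ≤ p := by
  intro hle
  have h1 := ideal_eq_top_of_span g hg le_rfl
  rw [ideal_localizedModule] at h1
  exact (IsLocalization.isPrime_of_isPrime_disjoint S (Localization S) p inferInstance hS).ne_top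
    (top_le_iff.1 (h1 ▸ Ideal.map_mono hle))

theorem not_le_iff_finrank_le [Module.Finite R M] (k : ℕ) (p : Ideal R) [p.IsPrime] :
    ¬ Fitt.ideal R M k ≤ p ↔ Module.finrank p.ResidueField (p.ResidueField ⊗[R] M) ≤ k := by
  have key : Fitt.ideal p.ResidueField (p.ResidueField ⊗[R] M) k = ⊤ ↔ ¬ Fitt.ideal R M k ≤ p := by
    rw [ideal_baseChange]
    constructor
    · intro h hle
      refine bot_ne_top (α := Ideal p.ResidueField) (Eq.trans ?_ h)
      exact ((Ideal.map_eq_bot_iff_le_ker _).2 (by rwa [Ideal.ker_algebraMap_residueField])).symm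
    · intro hle
      obtain ⟨r, hr, hrp⟩ := SetLike.not_le_iff_exists.1 hle
      refine Ideal.eq_top_of_isUnit_mem _ (Ideal.mem_map_of_mem _ hr) ?_
      exact isUnit_iff_ne_zero.2 fun h0 => hrp (Ideal.algebraMap_residueField_eq_zero.1 h0)
  rw [← key]
  constructor
  · intro h
    obtain ⟨g, hg⟩ := exists_span_of_ideal_eq_top h
    have := finrank_range_le_card (R := p.ResidueField) g
    rw [Set.finrank, hg, finrank_top, Fintype.card_fin] at this
    exact this
  · intro h
    exact ideal_eq_top_of_span (Module.finBasis p.ResidueField (p.ResidueField ⊗[R] M))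
      (Module.finBasis p.ResidueField _).span_eq h

end Spanning

section Prod

theorem exists_perm_mapsTo {α : Type*} [Fintype α] [DecidableEq α] (A B : Finset α) (h : A.card ≤ B.card) :
    ∃ τ : Equiv.Perm α, ∀ i ∈ A, τ i ∈ B := by
  obtain ⟨B', hB', hcard⟩ := Finset.exists_subset_card_eq h
  refine ⟨(Finset.equivOfCardEq hcard.symm).extendSubtype, fun i hi => hB' ?_⟩
  exact Equiv.extendSubtype_mem (Finset.equivOfCardEq hcard.symm) i hi

variable {ι ι' : Type*}

theorem minorsOf_elim_left_le (S : Set (ι → R)) (q : ℕ) :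
    minorsOf ((fun v => Sum.elim v (0 : ι' → R)) '' S) q ≤ minorsOf S q := by
  refine Ideal.span_le.2 ?_
  rintro _ ⟨z', e', hz, rfl⟩
  choose z hz hzz using hz
  by_cases h : ∃ a j, e' a = Sum.inr j
  · obtain ⟨a, j, ha⟩ := h
    rw [det_eq_zero_of_row_eq_zero a fun b => by simp [← hzz, ha]]
    exact zero_mem _
  · have : ∀ a, ∃ i, e' a = Sum.inl i := fun a => by
      rcases he : e' a with i | j
      · exact ⟨i, rfl⟩
      · exact absurd ⟨a, j, he⟩ h
    choose e he using this
    exact Ideal.subset_span ⟨z, e, hz, by congr 1; ext a b; simp [← hzz, he]⟩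

theorem minorsOf_elim_right_le (S : Set (ι' → R)) (q : ℕ) :
    minorsOf ((fun v => Sum.elim (0 : ι → R) v) '' S) q ≤ minorsOf S q := by
  refine le_trans ?_ (minorsOf_elim_left_le (ι' := ι) S q)
  refine le_trans (minorsOf_mono ?_ q) (minorsOf_comp_le Sum.swap _ q)
  rintro _ ⟨v, hv, rfl⟩
  exact ⟨_, ⟨v, hv, rfl⟩, by ext (i | j) <;> rfl⟩

theorem exists_det_mem_mul (S₁ : Set (ι → R)) (S₂ : Set (ι' → R)) {q : ℕ} (z : Fin q → (ι ⊕ ι') → R)
    (hz : ∀ b, z b ∈ (fun v => Sum.elim v (0 : ι' → R)) '' S₁ ∪ (fun v => Sum.elim (0 : ι → R) v) '' S₂)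
    (e : Fin q → ι ⊕ ι') :
    ∃ q₁ q₂, q₁ + q₂ = q ∧ (Matrix.of fun a b => z b (e a)).det ∈ minorsOf S₁ q₁ * minorsOf S₂ q₂ := by
  classical
  let P : Fin q → Prop := fun b => z b ∈ (fun v => Sum.elim v (0 : ι' → R)) '' S₁
  let A := univ.filter P
  let L := univ.filter fun a => (e a).isLeft
  obtain ⟨τ, hτ⟩ : ∃ τ : Equiv.Perm (Fin q),
      (∀ i, P i → (e (τ i)).isLeft) ∨ (∀ i, ¬ P i → ¬ (e (τ i)).isLeft) := by
    rcases le_total A.card L.card with h | h
    · obtain ⟨τ, hτ⟩ := exists_perm_mapsTo A L h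
      exact ⟨τ, Or.inl fun i hi => (mem_filter.1 (hτ i (mem_filter.2 ⟨mem_univ _, hi⟩))).2⟩
    · obtain ⟨τ, hτ⟩ := exists_perm_mapsTo Aᶜ Lᶜ (by rw [card_compl, card_compl]; omega)
      refine ⟨τ, Or.inr fun i hi => ?_⟩
      have := hτ i (by simp [A, hi])
      simpa [L] using this
  let N : Matrix (Fin q) (Fin q) R := Matrix.of fun a b => z b (e (τ a))
  have hdet : (Matrix.of fun a b => z b (e a)).det = Equiv.Perm.sign τ * N.det := by
    have : N.det = Equiv.Perm.sign τ * (Matrix.of fun a b => z b (e a)).det :=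
      det_permute τ (Matrix.of fun a b => z b (e a))
    rw [this, ← mul_assoc, ← Int.cast_mul, ← Units.val_mul, Int.units_mul_self]
    simp
  have hN : N.det = (toSquareBlockProp N P).det * (toSquareBlockProp N fun i => ¬ P i).det := by
    rcases hτ with hτ | hτ
    · refine twoBlockTriangular_det' N P fun i hi j hj => ?_
      obtain ⟨v, -, hv⟩ := (hz j).resolve_left hj
      rcases he : e (τ i) with l | r
      · simp [N, ← hv, he]
      · have := hτ i hi
        simp [he] at this
    · refine twoBlockTriangular_det N P fun i hi j hj => ?_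
      obtain ⟨v, -, hv⟩ := hj
      rcases he : e (τ i) with l | r
      · exact absurd (by simp [he]) (hτ i hi)
      · simp [N, ← hv, he]
  refine ⟨Fintype.card {b // P b}, Fintype.card {b // ¬ P b}, ?_, ?_⟩
  · rw [← Fintype.card_sum, Fintype.card_congr (Equiv.sumCompl P), Fintype.card_fin]
  rw [hdet, hN]
  refine Ideal.mul_mem_left _ _ (Ideal.mul_mem_mul ?_ ?_)
  · exact minorsOf_elim_left_le S₁ _ (det_mem_of_card (S := (fun v => Sum.elim v (0 : ι' → R)) '' S₁)
      (fun b : {b // P b} => z b) (fun b => b.2) (fun b => e (τ b)) rfl)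
  · exact minorsOf_elim_right_le S₂ _ (det_mem_of_card (S := (fun v => Sum.elim (0 : ι → R) v) '' S₂)
      (fun b : {b // ¬ P b} => z b) (fun b => (hz b).resolve_left b.2) (fun b => e (τ b)) rfl)

variable {M' : Type*} [AddCommGroup M'] [Module R M']

theorem ideal_prod [Module.Finite R M] [Module.Finite R M'] (l : ℕ) :
    Fitt.ideal R (M × M') l = ∑ k ∈ Finset.range (l + 1), Fitt.ideal R M k * Fitt.ideal R M' (l - k) := by
  obtain ⟨n, x, hx⟩ := exists_generators R M
  obtain ⟨m, y, hy⟩ := exists_generators R M'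
  let z : Fin n ⊕ Fin m → M × M' := Sum.elim (fun i => (x i, 0)) fun j => (0, y j)
  have hz : Submodule.span R (Set.range z) = ⊤ := by
    rw [Set.Sum.elim_range, Submodule.span_union,
      show Set.range (fun i => (x i, (0 : M'))) = LinearMap.inl R M M' '' Set.range x from by
        rw [← Set.range_comp]; rfl,
      show Set.range (fun j => ((0 : M), y j)) = LinearMap.inr R M M' '' Set.range y from by
        rw [← Set.range_comp]; rfl,
      Submodule.span_image, Submodule.span_image, hx, hy, Submodule.map_top, Submodule.map_top,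
      LinearMap.sup_range_inl_inr]
  let S : Set (Fin n ⊕ Fin m → R) := (fun v => Sum.elim v (0 : Fin m → R)) '' (rels R x : Set (Fin n → R)) ∪
    (fun v => Sum.elim (0 : Fin n → R) v) '' (rels R y : Set (Fin m → R))
  have hS : rels R z = Submodule.span R S := by
    refine le_antisymm (fun v hv => ?_) (Submodule.span_le.2 ?_)
    · have h := mem_rels.1 hv
      simp only [z, Fintype.sum_sum_type, Sum.elim_inl, Sum.elim_inr, Prod.smul_mk, smul_zero] at h
      have h1 := congrArg Prod.fst h
      have h2 := congrArg Prod.snd h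
      simp [Prod.fst_sum, Prod.snd_sum] at h1 h2
      have : v = Sum.elim (v ∘ Sum.inl) (0 : Fin m → R) + Sum.elim (0 : Fin n → R) (v ∘ Sum.inr) := by
        ext (i | j) <;> simp
      rw [this]
      exact add_mem (Submodule.subset_span (Or.inl ⟨_, mem_rels.2 h1, rfl⟩))
        (Submodule.subset_span (Or.inr ⟨_, mem_rels.2 h2, rfl⟩))
    · rintro _ (⟨v, hv, rfl⟩ | ⟨v, hv, rfl⟩) <;> refine mem_rels.2 (Prod.ext ?_ ?_) <;>
        simp [z, Fintype.sum_sum_type, Prod.fst_sum, Prod.snd_sum, mem_rels.1 hv]
  rw [ideal_eq' z hz, hS, minorsOf_span, Fintype.card_sum, Fintype.card_fin, Fintype.card_fin]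
  simp only [ideal_eq x hx, ideal_eq y hy]
  refine le_antisymm (Ideal.span_le.2 ?_) ?_
  · rintro _ ⟨w, e, hw, rfl⟩
    obtain ⟨q₁, q₂, hq, hd⟩ := exists_det_mem_mul _ _ w hw e
    by_cases h1 : n < q₁
    · rw [minorsOf_eq_bot_of_card_lt _ (by simpa using h1), Submodule.bot_mul] at hd
      rw [(Submodule.mem_bot R).1 hd]
      exact zero_mem _
    by_cases h2 : m < q₂
    · rw [minorsOf_eq_bot_of_card_lt (ι := Fin m) _ (by simpa using h2), Submodule.mul_bot] at hd
      rw [(Submodule.mem_bot R).1 hd]
      exact zero_mem _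
    have hk : n - q₁ ∈ Finset.range (l + 1) := mem_range.2 (by omega)
    rw [Ideal.sum_eq_sup]
    refine (Finset.le_sup (f := fun k => minorsOf (rels R x : Set (Fin n → R)) (n - k) *
      minorsOf (rels R y : Set (Fin m → R)) (m - (l - k))) hk) (Ideal.mul_mono ?_ ?_ hd)
    · exact minorsOf_anti _ (by omega)
    · exact minorsOf_anti _ (by omega)
  · rw [Ideal.sum_eq_sup]
    refine Finset.sup_le fun k hk => Ideal.mul_le.2 fun d₁ hd₁ d₂ hd₂ => ?_
    have hk' := mem_range.1 hk
    refine minorsOf_anti S (show n + m - l ≤ (n - k) + (m - (l - k)) by omega) ?_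
    induction hd₁ using Submodule.span_induction with
    | mem d hd =>
      obtain ⟨z₁, e₁, hz₁, rfl⟩ := hd
      induction hd₂ using Submodule.span_induction with
      | mem d hd =>
        obtain ⟨z₂, e₂, hz₂, rfl⟩ := hd
        have h := det_mem_of_card (S := S)
          (Sum.elim (fun b => Sum.elim (z₁ b) (0 : Fin m → R)) fun b => Sum.elim (0 : Fin n → R) (z₂ b))
          (fun b => by
            rcases b with b | b
            · exact Or.inl ⟨_, hz₁ b, rfl⟩
            · exact Or.inr ⟨_, hz₂ b, rfl⟩)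
          (Sum.map e₁ e₂) (q := (n - k) + (m - (l - k))) (by simp)
        have hb : (Matrix.of fun a b =>
            (Sum.elim (fun b => Sum.elim (z₁ b) (0 : Fin m → R)) fun b => Sum.elim (0 : Fin n → R) (z₂ b)) b
              (Sum.map e₁ e₂ a)) =
            Matrix.fromBlocks (Matrix.of fun a b => z₁ b (e₁ a)) 0 0 (Matrix.of fun a b => z₂ b (e₂ a)) := by
          ext (a | a) (b | b) <;> simp
        rwa [hb, det_fromBlocks_zero₁₂] at h
      | zero => simp
      | add p q _ _ hp hq => rw [mul_add]; exact add_mem hp hq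
      | smul c p _ hp => rw [smul_eq_mul, mul_left_comm]; exact Ideal.mul_mem_left _ _ hp
    | zero => simp
    | add p q _ _ hp hq => rw [add_mul]; exact add_mem hp hq
    | smul c p _ hp => rw [smul_eq_mul, mul_assoc]; exact Ideal.mul_mem_left _ _ hp

end Prod

section LocallyFree

variable [Module.Finite R M]

theorem exists_smul_eq_zero_of_free {k r : ℕ} (hkr : k < r) {g : R}
    [Module.Free (Localization.Away g) (LocalizedModule (Submonoid.powers g) M)] [Nontrivial (Localization.Away g)]
    (h : Module.finrank (Localization.Away g) (LocalizedModule (Submonoid.powers g) M) = r) {d : R}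
    (hd : d ∈ Fitt.ideal R M k) : ∃ N : ℕ, g ^ N * d = 0 := by
  haveI : Module.Finite (Localization.Away g) (LocalizedModule (Submonoid.powers g) M) :=
    Module.Finite.of_isLocalizedModule (Submonoid.powers g) (LocalizedModule.mkLinearMap (Submonoid.powers g) M)
  have h0 : Fitt.ideal (Localization (Submonoid.powers g)) (LocalizedModule (Submonoid.powers g) M) k = ⊥ :=
    ideal_eq_bot_of_basis (Module.finBasisOfFinrankEq (Localization.Away g) _ h) hkr
  rw [ideal_localizedModule, Ideal.map_eq_bot_iff_le_ker] at h0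
  obtain ⟨⟨_, N, rfl⟩, hN⟩ := (IsLocalization.map_eq_zero_iff (Submonoid.powers g) (Localization (Submonoid.powers g)) d).1 (h0 hd)
  exact ⟨N, hN⟩

theorem locallyFree_iff (r : ℕ) :
    (∀ (p : Ideal R) [p.IsPrime], ∃ f : R, f ∉ p ∧
      Module.Free (Localization.Away f) (LocalizedModule (Submonoid.powers f) M) ∧
        Module.finrank (Localization.Away f) (LocalizedModule (Submonoid.powers f) M) = r) ↔
    ((∀ k, k < r → Fitt.ideal R M k = ⊥) ∧ (∀ k, r ≤ k → Fitt.ideal R M k = ⊤)) := by
  have nt : ∀ {p : Ideal R} [p.IsPrime] {f : R}, f ∉ p → Nontrivial (Localization.Away f) := by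
    intro p hp f hf
    refine (IsLocalization.isPrime_of_isPrime_disjoint (Submonoid.powers f) (Localization.Away f) p hp ?_).ne_top
      |> fun h => nontrivial_of_ne (0 : Localization.Away f) 1 fun h01 => h ((Ideal.eq_top_iff_one _).2 (h01 ▸ zero_mem _))
    rw [Set.disjoint_left]
    rintro _ ⟨N, rfl⟩ hN
    exact hf (hp.mem_of_pow_mem N hN)
  constructor
  · intro h
    constructor
    · intro k hk
      refine (Submodule.eq_bot_iff _).2 fun d hd => ?_
      by_contra hd0
      obtain ⟨p, hp, hle⟩ := Ideal.exists_le_maximal (Module.annihilator R ↥(Submodule.span R {d}))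
        fun htop => hd0 (by simpa using congrArg Subtype.val (Module.mem_annihilator.1 (htop ▸ Submodule.mem_top : (1 : R) ∈ Module.annihilator R _) ⟨d, Submodule.mem_span_singleton_self d⟩))
      obtain ⟨f, hf, hfree, hrank⟩ := h p
      haveI := nt hf
      obtain ⟨N, hN⟩ := exists_smul_eq_zero_of_free hk hrank hd
      refine hf (hp.isPrime.mem_of_pow_mem N (hle (Module.mem_annihilator.2 fun y => ?_)))
      obtain ⟨c, hc⟩ := Submodule.mem_span_singleton.1 y.2
      exact Subtype.ext (by simp [← hc, mul_left_comm _ c, hN])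
    · intro k hk
      by_contra hne
      obtain ⟨p, hp, hle⟩ := Ideal.exists_le_maximal _ hne
      obtain ⟨f, hf, hfree, hrank⟩ := h p
      haveI := nt hf
      haveI : Module.Finite (Localization.Away f) (LocalizedModule (Submonoid.powers f) M) :=
        Module.Finite.of_isLocalizedModule (Submonoid.powers f) (LocalizedModule.mkLinearMap (Submonoid.powers f) M)
      refine not_le_of_span_localizedModule (p := p) (S := Submonoid.powers f) ?_
        (Module.finBasisOfFinrankEq (Localization.Away f) _ hrank)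
        (Module.finBasisOfFinrankEq (Localization.Away f) _ hrank).span_eq ((ideal_mono hk).trans hle)
      rw [Set.disjoint_left]
      rintro _ ⟨N, rfl⟩ hN
      exact hf (hp.isPrime.mem_of_pow_mem N hN)
  · rintro ⟨h0, h1⟩ p hp
    obtain ⟨f, hf, g, hg⟩ := exists_away_span_of_not_le (M := M) (k := r) (p := p)
      (by rw [h1 r le_rfl]; exact fun h => hp.ne_top (top_le_iff.1 h))
    haveI := nt hf
    haveI : Module.Finite (Localization.Away f) (LocalizedModule (Submonoid.powers f) M) :=
      Module.Finite.of_isLocalizedModule (Submonoid.powers f) (LocalizedModule.mkLinearMap (Submonoid.powers f) M)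
    have hli : LinearIndependent (Localization.Away f) g := by
      refine linearIndependent_of_ideal_eq_bot g hg ?_
      rcases Nat.eq_zero_or_pos r with hr | hr
      · exact Or.inl hr
      · refine Or.inr ?_
        show Fitt.ideal (Localization (Submonoid.powers f)) (LocalizedModule (Submonoid.powers f) M) (r - 1) = ⊥
        rw [ideal_localizedModule, h0 _ (by omega), Ideal.map_bot]
    let b := Module.Basis.mk hli hg.ge
    exact ⟨f, hf, Module.Free.of_basis b, by rw [Module.finrank_eq_card_basis b, Fintype.card_fin]⟩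

end LocallyFree

end Groth.Agent.FittLib
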