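import Groth.Agent.FittLib.Minors
import Groth.Prelude.Def_Fitting
import Mathlib

/-!
# Basic properties of Fitting ideals
-/

universe u v w

open Finset Matrix TensorProduct

namespace Groth.Agent.FittLib

variable {R : Type u} [CommRing R] {M : Type v} [AddCommGroup M] [Module R M]

theorem minorsOf_rels_le_ideal {n : ℕ} (x : Fin n → M) (hx : Submodule.span R (Set.range x) = ⊤) (k : ℕ) :
    minorsOf (rels R x : Set (Fin n → R)) (n - k) ≤ Fitt.ideal R M k := by
  refine Ideal.span_le.2 ?_
  rintro _ ⟨z, e, hz, rfl⟩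
  by_cases he : Function.Injective e
  swap
  · rw [det_eq_zero_of_not_injective z e he]
    exact zero_mem _
  let p : Fin n → Prop := fun i => (i : ℕ) < n - k
  let cst : Fin (n - k) ≃ {i : Fin n // p i} :=
    { toFun := fun i => ⟨⟨i, by omega⟩, i.2⟩
      invFun := fun i => ⟨i.1, i.2⟩
      left_inv := fun _ => rfl
      right_inv := fun _ => rfl }
  let τ : Equiv.Perm (Fin n) := (cst.symm.trans (Equiv.ofInjective e he)).extendSubtype
  have hτ : ∀ i (h : p i), τ i = e (cst.symm ⟨i, h⟩) := fun i h => by
    simp [τ, Equiv.extendSubtype_apply_of_mem _ i h]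
  let a : Matrix (Fin n) (Fin n) R :=
    Matrix.of fun i => if h : p i then z (cst.symm ⟨i, h⟩) else Pi.single (τ i) 1
  have ha : a.det ∈ Fitt.ideal R M k := by
    refine Ideal.subset_span ⟨n, x, a, hx, fun i hi => ?_, rfl⟩
    have := mem_rels.1 (hz (cst.symm ⟨i, hi⟩))
    simpa [a, p, hi] using this
  have hblock : (a.submatrix id τ).det = (Matrix.of fun i j => z j (e i)).det := by
    rw [twoBlockTriangular_det _ p]
    swap
    · intro i hi j hj
      have hne : τ j ≠ τ i := fun h => hi (τ.injective h ▸ hj)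
      simp [a, hi, Pi.single_eq_of_ne hne]
    have h2 : toSquareBlockProp (a.submatrix id τ) (fun i => ¬ p i) = 1 := by
      ext ⟨i, hi⟩ ⟨j, hj⟩
      simp [toSquareBlockProp_def, a, hi, Pi.single_apply, Matrix.one_apply, τ.injective.eq_iff, eq_comm]
    have h1 : (toSquareBlockProp (a.submatrix id τ) p).submatrix cst cst = (Matrix.of fun i j => z j (e i))ᵀ := by
      ext i j
      have hi : p (cst i).1 := (cst i).2
      have hj : p (cst j).1 := (cst j).2
      simp [toSquareBlockProp_def, a, hi, hτ _ hj]
    rw [h2, det_one, mul_one, ← det_submatrix_equiv_self cst, h1, det_transpose]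
  rw [← hblock, det_permute']
  exact Ideal.mul_mem_left _ _ ha

/-- The Fitting ideal is the ideal of minors of the relations of any generating tuple. -/
theorem ideal_eq {n : ℕ} (x : Fin n → M) (hx : Submodule.span R (Set.range x) = ⊤) (k : ℕ) :
    Fitt.ideal R M k = minorsOf (rels R x : Set (Fin n → R)) (n - k) := by
  refine le_antisymm (Ideal.span_le.2 ?_) (minorsOf_rels_le_ideal x hx k)
  rintro _ ⟨m, y, a, hy, ha, rfl⟩
  refine minorsOf_rels_le y x hy hx k ?_
  rw [← det_transpose a]
  refine det_mem (fun c => a c) id (univ.filter fun i : Fin m => (i : ℕ) < m - k) (fun i hi => ?_) ?_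
  · exact mem_rels.2 (ha i (mem_filter.1 hi).2)
  · rw [Fin.card_filter_val_lt]
    omega

/-- `ideal_eq` for tuples indexed by any finite type. -/
theorem ideal_eq' {ι : Type*} [Fintype ι] (x : ι → M) (hx : Submodule.span R (Set.range x) = ⊤) (k : ℕ) :
    Fitt.ideal R M k = minorsOf (rels R x : Set (ι → R)) (Fintype.card ι - k) := by
  let g := (Fintype.equivFin ι).symm
  rw [ideal_eq (x ∘ g) (by rw [Set.range_comp, g.surjective.range_eq, Set.image_univ, hx]) k,
    minorsOf_rels_comp g x]

theorem exists_generators (R : Type u) (M : Type v) [CommRing R] [AddCommGroup M] [Module R M] [Module.Finite R M] :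
    ∃ (n : ℕ) (x : Fin n → M), Submodule.span R (Set.range x) = ⊤ :=
  Module.Finite.exists_fin

theorem ideal_mono [Module.Finite R M] {k k' : ℕ} (h : k ≤ k') : Fitt.ideal R M k ≤ Fitt.ideal R M k' := by
  obtain ⟨n, x, hx⟩ := exists_generators R M
  rw [ideal_eq x hx, ideal_eq x hx]
  exact minorsOf_anti _ (by omega)

theorem ideal_eq_top_of_span {n : ℕ} (x : Fin n → M) (hx : Submodule.span R (Set.range x) = ⊤) {k : ℕ}
    (h : n ≤ k) : Fitt.ideal R M k = ⊤ := by
  rw [ideal_eq x hx, Nat.sub_eq_zero_of_le h, minorsOf_zero]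

theorem span_range_comp_eq_top {M' : Type*} [AddCommGroup M'] [Module R M'] {ι : Type*} (f : M →ₗ[R] M')
    (hf : Function.Surjective f) (x : ι → M) (hx : Submodule.span R (Set.range x) = ⊤) :
    Submodule.span R (Set.range (f ∘ x)) = ⊤ := by
  rw [Set.range_comp, Submodule.span_image, hx, Submodule.map_top, LinearMap.range_eq_top.2 hf]

theorem ideal_le_of_surjective [Module.Finite R M] {M' : Type*} [AddCommGroup M'] [Module R M']
    (f : M →ₗ[R] M') (hf : Function.Surjective f) (k : ℕ) : Fitt.ideal R M k ≤ Fitt.ideal R M' k := by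
  obtain ⟨n, x, hx⟩ := exists_generators R M
  rw [ideal_eq x hx, ideal_eq (f ∘ x) (span_range_comp_eq_top f hf x hx)]
  refine minorsOf_mono (fun v hv => mem_rels.2 ?_) _
  simpa using congrArg f (mem_rels.1 hv)

theorem ideal_congr [Module.Finite R M] {M' : Type*} [AddCommGroup M'] [Module R M'] (e : M ≃ₗ[R] M') (k : ℕ) :
    Fitt.ideal R M k = Fitt.ideal R M' k :=
  haveI : Module.Finite R M' := Module.Finite.equiv e
  le_antisymm (ideal_le_of_surjective e.toLinearMap e.surjective k)
    (ideal_le_of_surjective e.symm.toLinearMap e.symm.surjective k)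

theorem ideal_fg [Module.FinitePresentation R M] (k : ℕ) : (Fitt.ideal R M k).FG := by
  obtain ⟨n, x, hx⟩ := exists_generators R M
  have hsurj : Function.Surjective (Fintype.linearCombination R x) := by
    rw [← LinearMap.range_eq_top, Fintype.range_linearCombination, hx]
  obtain ⟨s, hs⟩ := Module.FinitePresentation.fg_ker _ hsurj
  rw [ideal_eq x hx, rels, ← hs, minorsOf_span]
  exact minorsOf_fg s.finite_toSet _

section BaseChange

variable {R' : Type w} [CommRing R'] [Algebra R R'] {M' : Type*} [AddCommGroup M'] [Module R M'] [Module R' M']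
  [IsScalarTower R R' M'] {f : M →ₗ[R] M'}

theorem span_range_comp_isBaseChange (h : IsBaseChange R' f) {ι : Type*} (x : ι → M)
    (hx : Submodule.span R (Set.range x) = ⊤) : Submodule.span R' (Set.range (f ∘ x)) = ⊤ := by
  refine Submodule.eq_top_iff'.2 fun y => ?_
  obtain ⟨t, rfl⟩ := h.equiv.surjective y
  induction t using TensorProduct.induction_on with
  | zero => simp
  | tmul r m =>
    rw [h.equiv_tmul]
    refine Submodule.smul_mem _ _ ?_
    have hm : m ∈ Submodule.span R (Set.range x) := hx ▸ Submodule.mem_top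
    have := Submodule.mem_map_of_mem (f := f) hm
    rw [Submodule.map_span, ← Set.range_comp] at this
    exact Submodule.span_le_restrictScalars R R' _ this
  | add a b ha hb => rw [map_add]; exact add_mem ha hb

theorem rels_isBaseChange (h : IsBaseChange R' f) {ι : Type*} [Fintype ι] (x : ι → M)
    (hx : Submodule.span R (Set.range x) = ⊤) :
    rels R' (f ∘ x) = Submodule.span R' ((fun v => algebraMap R R' ∘ v) '' (rels R x : Set (ι → R))) := by
  classical
  refine le_antisymm (fun v hv => ?_) (Submodule.span_le.2 ?_)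
  · let g := Fintype.linearCombination R x
    have hg : Function.Surjective g := by rw [← LinearMap.range_eq_top, Fintype.range_linearCombination, hx]
    let u : R' ⊗[R] (ι → R) := ∑ i, v i ⊗ₜ Pi.single i 1
    have hu : g.lTensor R' u = 0 := by
      refine h.equiv.injective ?_
      simp only [u, map_sum, LinearMap.lTensor_tmul, g, Fintype.linearCombination_apply_single, one_smul,
        h.equiv_tmul, map_zero]
      exact mem_rels.1 hv
    obtain ⟨t, ht⟩ := (lTensor_exact R' (LinearMap.exact_subtype_ker_map g) hg u).1 hu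
    let Φ := TensorProduct.piScalarRight R R' R' ι
    have hΦ : Φ u = v := by
      funext j
      simp [u, Φ, Finset.sum_apply, Pi.single_apply]
    rw [← hΦ, ← ht]
    clear ht
    induction t using TensorProduct.induction_on with
    | zero => simp
    | tmul r k =>
      rw [LinearMap.lTensor_tmul]
      have : Φ (r ⊗ₜ[R] (k : ι → R)) = r • (algebraMap R R' ∘ (k : ι → R)) := by
        funext i
        simp [Φ, Algebra.smul_def, mul_comm]
      erw [this]
      exact Submodule.smul_mem _ _ (Submodule.subset_span ⟨k, k.2, rfl⟩)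
    | add a b ha hb => rw [map_add, map_add]; exact add_mem ha hb
  · rintro _ ⟨v, hv, rfl⟩
    refine mem_rels.2 ?_
    have := congrArg f (mem_rels.1 hv)
    simpa [algebraMap_smul] using this

theorem ideal_isBaseChange [Module.Finite R M] (h : IsBaseChange R' f) (k : ℕ) :
    Fitt.ideal R' M' k = (Fitt.ideal R M k).map (algebraMap R R') := by
  obtain ⟨n, x, hx⟩ := exists_generators R M
  rw [ideal_eq x hx, ideal_eq (f ∘ x) (span_range_comp_isBaseChange h x hx), rels_isBaseChange h x hx,
    minorsOf_span, map_minorsOf]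

theorem ideal_baseChange [Module.Finite R M] (k : ℕ) :
    Fitt.ideal R' (R' ⊗[R] M) k = (Fitt.ideal R M k).map (algebraMap R R') :=
  ideal_isBaseChange (TensorProduct.isBaseChange R M R') k

theorem ideal_localizedModule [Module.Finite R M] (S : Submonoid R) (k : ℕ) :
    Fitt.ideal (Localization S) (LocalizedModule S M) k = (Fitt.ideal R M k).map (algebraMap R (Localization S)) :=
  ideal_isBaseChange (IsLocalizedModule.isBaseChange S (Localization S) (LocalizedModule.mkLinearMap S M)) k

end BaseChange

section Zero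

theorem pow_mem_ideal_zero {n : ℕ} (x : Fin n → M) (hx : Submodule.span R (Set.range x) = ⊤) {r : R}
    (hr : ∀ m : M, r • m = 0) : r ^ n ∈ Fitt.ideal R M 0 := by
  refine Ideal.subset_span ⟨n, x, Matrix.diagonal fun _ => r, hx, fun i _ => ?_, by simp⟩
  simp [Matrix.diagonal_apply, ite_smul, hr]

theorem ideal_zero_le_annihilator : Fitt.ideal R M 0 ≤ Module.annihilator R M := by
  refine Ideal.span_le.2 ?_
  rintro _ ⟨n, x, a, hx, ha, rfl⟩
  refine Module.mem_annihilator.2 fun m => ?_
  have hm : m ∈ Submodule.span R (Set.range x) := hx ▸ Submodule.mem_top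
  induction hm using Submodule.span_induction with
  | mem m hm =>
    obtain ⟨i, rfl⟩ := hm
    have h0 : ∑ j, adjugate a i j • ∑ c, a j c • x c = 0 :=
      Finset.sum_eq_zero fun j _ => by rw [ha j (by simp), smul_zero]
    simp only [Finset.smul_sum, smul_smul] at h0
    rw [Finset.sum_comm] at h0
    simp only [← Finset.sum_smul] at h0
    have hadj : ∀ c, ∑ j, adjugate a i j * a j c = if i = c then a.det else 0 := fun c => by
      have := congrFun (congrFun (adjugate_mul a) i) c
      simpa [Matrix.mul_apply, Matrix.one_apply] using this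
    simpa [hadj, ite_smul] using h0
  | zero => simp
  | add p q _ _ hp hq => simp [hp, hq]
  | smul c p _ hp => rw [smul_comm, hp, smul_zero]

theorem zeroLocus_ideal_zero [Module.Finite R M] :
    PrimeSpectrum.zeroLocus (Fitt.ideal R M 0 : Set R) = Module.support R M := by
  obtain ⟨n, x, hx⟩ := exists_generators R M
  rw [Module.support_eq_zeroLocus]
  refine le_antisymm (fun p hp r hr => ?_) (PrimeSpectrum.zeroLocus_anti_mono ideal_zero_le_annihilator)
  exact p.2.mem_of_pow_mem n (hp (pow_mem_ideal_zero x hx (Module.mem_annihilator.1 hr)))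

theorem ideal_quotient (I : Ideal R) : Fitt.ideal R (R ⧸ I) 0 = I := by
  have hx : Submodule.span R (Set.range fun _ : Fin 1 => (1 : R ⧸ I)) = ⊤ := by
    refine Submodule.eq_top_iff'.2 fun y => ?_
    obtain ⟨r, rfl⟩ := Ideal.Quotient.mk_surjective y
    rw [← mul_one r, map_mul, map_one, ← Ideal.Quotient.algebraMap_eq, ← Algebra.smul_def]
    exact Submodule.smul_mem _ _ (Submodule.subset_span ⟨0, rfl⟩)
  rw [ideal_eq _ hx]
  refine le_antisymm (Ideal.span_le.2 ?_) fun r hr => ?_
  · rintro _ ⟨z, e, hz, rfl⟩
    have := mem_rels.1 (hz 0)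
    simp only [Fin.sum_univ_one, Algebra.smul_def, mul_one, Ideal.Quotient.algebraMap_eq,
      Ideal.Quotient.eq_zero_iff_mem] at this
    simpa [det_unique, Subsingleton.elim (e 0) 0] using this
  · refine Ideal.subset_span ⟨fun _ _ => r, id, fun _ => mem_rels.2 ?_, by simp [det_unique]⟩
    simp [Algebra.smul_def, Ideal.Quotient.eq_zero_iff_mem.2 hr]

end Zero

section Free

theorem mem_minorsOf_one {ι : Type*} {S : Set (ι → R)} {v : ι → R} (hv : v ∈ S) (i : ι) : v i ∈ minorsOf S 1 :=
  Ideal.subset_span ⟨fun _ => v, fun _ => i, fun _ => hv, by simp [det_unique]⟩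

theorem ideal_eq_bot_of_basis {n : ℕ} (b : Module.Basis (Fin n) R M) {k : ℕ} (hk : k < n) :
    Fitt.ideal R M k = ⊥ := by
  rw [ideal_eq b b.span_eq, rels,
    LinearMap.ker_eq_bot.2 (linearIndependent_iff_injective_fintypeLinearCombination.1 b.linearIndependent)]
  refine le_bot_iff.1 (Ideal.span_le.2 ?_)
  rintro _ ⟨z, e, hz, rfl⟩
  have hz' : z = 0 := funext hz
  subst hz'
  have : Nonempty (Fin (n - k)) := ⟨⟨0, by omega⟩⟩
  simp only [Submodule.bot_coe, Set.mem_singleton_iff, Ideal.mem_bot, SetLike.mem_coe]
  exact det_eq_zero_of_row_eq_zero (Classical.arbitrary _) fun b => rfl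

theorem linearIndependent_of_ideal_eq_bot {n : ℕ} (x : Fin n → M) (hx : Submodule.span R (Set.range x) = ⊤)
    (h : n = 0 ∨ Fitt.ideal R M (n - 1) = ⊥) : LinearIndependent R x := by
  rw [Fintype.linearIndependent_iff]
  intro v hv i
  rcases h with rfl | h
  · exact i.elim0
  have hn : n - (n - 1) = 1 := by have := i.2; omega
  rw [ideal_eq x hx, hn] at h
  exact (Submodule.eq_bot_iff _).1 h _ (mem_minorsOf_one (mem_rels.2 hv) i)

end Free

end Groth.Agent.FittLib
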