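import Groth.Agent.FittLib.Torsion
import Groth.Prelude.Def_BlowUp2
import Groth.Prelude.Def_FlatCA

/-!
# Fitting ideals of strict transforms along affine blowup algebras
-/

universe u

open Finset Matrix TensorProduct

namespace Groth.Agent.FittLib

variable {R : Type u} [CommRing R] {I : Ideal R} {a : R} {R₁ : Type u} [CommRing R₁] [Algebra R R₁]

theorem self_mem_nonZeroDivisors_blowup (e : R₁ ≃ₐ[R] ↥(BlowUp.affineAlgebra R I a)) :
    algebraMap R R₁ a ∈ nonZeroDivisors R₁ := by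
  rw [mem_nonZeroDivisors_iff_right]
  intro y hy
  have h := congrArg (fun w => ((e w : ↥(BlowUp.affineAlgebra R I a)) : Localization.Away a)) hy
  simp only [map_mul, AlgEquiv.commutes, map_zero, MulMemClass.coe_mul, ZeroMemClass.coe_zero] at h
  have hu : IsUnit (algebraMap R (Localization.Away a) a) := IsLocalization.Away.algebraMap_isUnit a
  have h0 : ((e y : ↥(BlowUp.affineAlgebra R I a)) : Localization.Away a) = 0 := hu.mul_left_eq_zero.1 h
  exact e.injective (Subtype.ext (by simpa using h0))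

theorem map_le_span_blowup (e : R₁ ≃ₐ[R] ↥(BlowUp.affineAlgebra R I a)) :
    I.map (algebraMap R R₁) ≤ Ideal.span {algebraMap R R₁ a} := by
  refine Ideal.map_le_iff_le_comap.2 fun x hx => ?_
  rw [Ideal.mem_comap, Ideal.mem_span_singleton]
  let q : ↥(BlowUp.affineAlgebra R I a) :=
    ⟨IsLocalization.mk' (Localization.Away a) x ⟨a, Submonoid.mem_powers a⟩, Algebra.subset_adjoin ⟨x, hx, rfl⟩⟩
  refine ⟨e.symm q, e.injective ?_⟩
  rw [map_mul, AlgEquiv.commutes, AlgEquiv.commutes, AlgEquiv.apply_symm_apply]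
  refine Subtype.ext ?_
  show algebraMap R (Localization.Away a) x = algebraMap R (Localization.Away a) a * _
  exact (IsLocalization.mk'_spec' (Localization.Away a) x ⟨a, Submonoid.mem_powers a⟩).symm

variable {M : Type u} [AddCommGroup M] [Module R M] [Module.Finite R M]

theorem mem_powTorsion_of_smul {S : Type u} [CommRing S] {N : Type u} [AddCommGroup N] [Module S N] {c : S} {m : N}
    (h : c • m = 0) : m ∈ FlatCA.powTorsion S c N :=
  Submodule.mem_iSup_of_mem 1 (by simpa using h)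

theorem exists_pow_smul_of_mem_powTorsion {S : Type u} [CommRing S] {N : Type u} [AddCommGroup N] [Module S N]
    {c : S} {m : N} (h : m ∈ FlatCA.powTorsion S c N) : ∃ n : ℕ, c ^ n • m = 0 := by
  have hdir : Directed (· ≤ ·) fun n : ℕ => Submodule.torsionBy S N (c ^ n) :=
    Monotone.directed_le fun i j hij x hx => by
      rw [Submodule.mem_torsionBy_iff] at hx ⊢
      obtain ⟨d, rfl⟩ := Nat.exists_eq_add_of_le hij
      rw [add_comm, pow_add, mul_smul, hx, smul_zero]
  obtain ⟨n, hn⟩ := (Submodule.mem_iSup_of_directed _ hdir).1 h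
  exact ⟨n, (Submodule.mem_torsionBy_iff _ _).1 hn⟩

/-- The strict transform has unit Fitting ideal. -/
theorem ideal_strictTransform_eq_top (k : ℕ) (ha : a ∈ Fitt.ideal R M k) (hI : I = Fitt.ideal R M k)
    (e : R₁ ≃ₐ[R] ↥(BlowUp.affineAlgebra R I a)) :
    Fitt.ideal R₁ ((R₁ ⊗[R] M) ⧸ FlatCA.powTorsion R₁ (algebraMap R R₁ a) (R₁ ⊗[R] M)) k = ⊤ := by
  refine ideal_quotient_eq_top k (self_mem_nonZeroDivisors_blowup e) ?_ ?_ _ fun m hm => mem_powTorsion_of_smul hm
  · rw [ideal_baseChange]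
    exact Ideal.mem_map_of_mem _ ha
  · rw [ideal_baseChange, ← hI]
    exact map_le_span_blowup e

/-- A strict transform with unit `r`-th Fitting ideal is locally free of rank `r` when the lower Fitting
ideals are killed by powers of `a`. -/
theorem strictTransform_locallyFree (r : ℕ)
    (hnzd : algebraMap R R₁ a ∈ nonZeroDivisors R₁)
    (htop : Fitt.ideal R₁ ((R₁ ⊗[R] M) ⧸ FlatCA.powTorsion R₁ (algebraMap R R₁ a) (R₁ ⊗[R] M)) r = ⊤)
    (hkill : ∀ j, j < r → ∀ d ∈ Fitt.ideal R M j, ∃ m : ℕ, a ^ m * d = 0) :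
    ∀ (p' : Ideal R₁) [p'.IsPrime], ∃ g : R₁, g ∉ p' ∧
      Module.Free (Localization.Away g) (LocalizedModule (Submonoid.powers g)
          ((R₁ ⊗[R] M) ⧸ FlatCA.powTorsion R₁ (algebraMap R R₁ a) (R₁ ⊗[R] M))) ∧
      Module.finrank (Localization.Away g) (LocalizedModule (Submonoid.powers g)
          ((R₁ ⊗[R] M) ⧸ FlatCA.powTorsion R₁ (algebraMap R R₁ a) (R₁ ⊗[R] M))) = r := by
  set c := algebraMap R R₁ a
  let N := FlatCA.powTorsion R₁ c (R₁ ⊗[R] M)
  refine (locallyFree_iff r).2 ⟨fun j hj => ?_, fun j hj => top_le_iff.1 (htop ▸ ideal_mono hj)⟩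
  obtain ⟨n, x, hx⟩ := exists_generators R₁ (R₁ ⊗[R] M)
  refine (Submodule.eq_bot_iff _).2 fun d hd => ?_
  rw [ideal_eq (N.mkQ ∘ x) (span_range_comp_eq_top _ N.mkQ_surjective x hx), minorsOf] at hd
  induction hd using Submodule.span_induction with
  | zero => rfl
  | add p q _ _ hp hq => rw [hp, hq, add_zero]
  | smul r p _ hp => rw [hp, smul_zero]
  | mem d hd =>
    obtain ⟨z, e, hz, rfl⟩ := hd
    have hb : ∀ b, ∃ m : ℕ, c ^ m • (∑ i, z b i • x i) = 0 := fun b => by
      refine exists_pow_smul_of_mem_powTorsion ((Submodule.Quotient.mk_eq_zero N).1 ?_)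
      simpa [← Submodule.mkQ_apply, map_sum] using mem_rels.1 (hz b)
    obtain ⟨m, hm⟩ := exists_uniform_pow_smul (fun b => ∑ i, z b i • x i) c hb
    have hrel : ∀ b, c ^ m • z b ∈ rels R₁ x := fun b => mem_rels.2 <| by
      simpa [Finset.smul_sum, mul_smul] using hm b
    have h : (c ^ m) ^ (n - j) * (Matrix.of fun a b => z b (e a)).det ∈
        minorsOf (rels R₁ x : Set (Fin n → R₁)) (n - j) := by
      refine pow_mul_minorsOf_le (S := Set.range z) ?_ (det_mem_of_card (S := Set.range z) z (fun b => ⟨b, rfl⟩) e (Fintype.card_fin _))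
      rintro _ ⟨b, rfl⟩
      exact hrel b
    rw [← ideal_eq x hx, ideal_baseChange] at h
    have hmap : (Fitt.ideal R M j).map (algebraMap R R₁) = ⊥ := by
      refine le_bot_iff.1 (Ideal.map_le_iff_le_comap.2 fun d hd => ?_)
      obtain ⟨t, ht⟩ := hkill j hj d hd
      have := congrArg (algebraMap R R₁) ht
      rw [map_mul, map_pow, map_zero] at this
      exact (mul_right_mem_nonZeroDivisors_eq_zero_iff (pow_mem hnzd t)).1 (by rwa [mul_comm] at this)
    rw [hmap] at h
    exact (mul_right_mem_nonZeroDivisors_eq_zero_iff (pow_mem (pow_mem hnzd m) _)).1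
      (by rwa [mul_comm, Submodule.mem_bot] at h)

theorem exists_finite_subset_mem_minorsOf {ι : Type*} {S : Set (ι → R)} {q : ℕ} {y : R} (hy : y ∈ minorsOf S q) :
    ∃ T : Set (ι → R), T.Finite ∧ T ⊆ S ∧ y ∈ minorsOf T q := by
  induction hy using Submodule.span_induction with
  | mem d hd =>
    obtain ⟨z, e, hz, rfl⟩ := hd
    exact ⟨Set.range z, Set.finite_range z, Set.range_subset_iff.2 hz,
      Ideal.subset_span ⟨z, e, fun j => ⟨j, rfl⟩, rfl⟩⟩
  | zero => exact ⟨∅, Set.finite_empty, Set.empty_subset _, zero_mem _⟩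
  | add p q _ _ hp hq =>
    obtain ⟨T, hT, hTS, hTp⟩ := hp
    obtain ⟨T', hT', hTS', hTq⟩ := hq
    exact ⟨T ∪ T', hT.union hT', Set.union_subset hTS hTS',
      add_mem (minorsOf_mono Set.subset_union_left _ hTp) (minorsOf_mono Set.subset_union_right _ hTq)⟩
  | smul c p _ hp =>
    obtain ⟨T, hT, hTS, hTp⟩ := hp
    exact ⟨T, hT, hTS, Ideal.mul_mem_left _ c hTp⟩

theorem exists_pow_mul_eq_zero_of_forall_prime {d : R}
    (h : ∀ (p : Ideal R), p.IsPrime → a ∉ p → ∃ s ∉ p, s * d = 0) : ∃ m : ℕ, a ^ m * d = 0 := by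
  by_contra hne
  simp only [not_exists] at hne
  have hdisj : Disjoint ((Module.annihilator R ↥(Submodule.span R {d}) : Ideal R) : Set R) (Submonoid.powers a) := by
    rw [Set.disjoint_left]
    rintro _ hs ⟨m, rfl⟩
    exact hne m (congrArg Subtype.val (Module.mem_annihilator.1 hs ⟨d, Submodule.mem_span_singleton_self d⟩))
  obtain ⟨p, hp, hle, hpd⟩ := Ideal.exists_le_prime_disjoint _ _ hdisj
  obtain ⟨s, hs, hsd⟩ := h p hp fun hap => Set.disjoint_left.1 hpd hap (Submonoid.mem_powers a)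
  refine hs (hle (Module.mem_annihilator.2 fun y => ?_))
  obtain ⟨c, hc⟩ := Submodule.mem_span_singleton.1 y.2
  refine Subtype.ext ?_
  show s * (y : R) = 0
  rw [← hc, smul_eq_mul, mul_left_comm, hsd, mul_zero]

theorem exists_ideal_blowup (f : R) (r : ℕ)
    (hf : ∀ (p : Ideal R) [p.IsPrime], f ∉ p → ∃ g : R, g ∉ p ∧
      Module.Free (Localization.Away g) (LocalizedModule (Submonoid.powers g) M) ∧
        Module.finrank (Localization.Away g) (LocalizedModule (Submonoid.powers g) M) = r) :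
    ∃ I : Ideal R, I.FG ∧ I.radical = (Ideal.span {f}).radical ∧ ∀ a ∈ I, ∀ (R₁ : Type u) [CommRing R₁] [Algebra R R₁]
      (_ : R₁ ≃ₐ[R] ↥(BlowUp.affineAlgebra R I a)),
      ∀ (p' : Ideal R₁) [p'.IsPrime], ∃ g : R₁, g ∉ p' ∧
        Module.Free (Localization.Away g) (LocalizedModule (Submonoid.powers g)
            ((R₁ ⊗[R] M) ⧸ FlatCA.powTorsion R₁ (algebraMap R R₁ a) (R₁ ⊗[R] M))) ∧
        Module.finrank (Localization.Away g) (LocalizedModule (Submonoid.powers g)
            ((R₁ ⊗[R] M) ⧸ FlatCA.powTorsion R₁ (algebraMap R R₁ a) (R₁ ⊗[R] M))) = r := by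
  obtain ⟨n, x, hx⟩ := exists_generators R M
  have key : ∀ (p : Ideal R) [p.IsPrime], f ∉ p →
      ¬ Fitt.ideal R M r ≤ p ∧ ∀ j, j < r → ∀ d ∈ Fitt.ideal R M j, ∃ s ∉ p, s * d = 0 := by
    intro p hp hfp
    obtain ⟨g, hg, hfree, hrank⟩ := hf p hfp
    have hdisj : Disjoint (Submonoid.powers g : Set R) (p : Set R) := by
      rw [Set.disjoint_left]
      rintro _ ⟨m, rfl⟩ hm
      exact hg (hp.mem_of_pow_mem m hm)
    haveI : Nontrivial (Localization.Away g) := nontrivial_of_ne 0 1 fun h01 =>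
      (IsLocalization.isPrime_of_isPrime_disjoint (Submonoid.powers g) (Localization.Away g) p hp hdisj).ne_top
        ((Ideal.eq_top_iff_one _).2 (h01 ▸ zero_mem _))
    haveI : Module.Finite (Localization.Away g) (LocalizedModule (Submonoid.powers g) M) :=
      Module.Finite.of_isLocalizedModule (Submonoid.powers g) (LocalizedModule.mkLinearMap (Submonoid.powers g) M)
    refine ⟨not_le_of_span_localizedModule (S := Submonoid.powers g) hdisj
      (Module.finBasisOfFinrankEq (Localization.Away g) _ hrank)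
      (Module.finBasisOfFinrankEq (Localization.Away g) _ hrank).span_eq, fun j hj d hd => ?_⟩
    obtain ⟨m, hm⟩ := exists_smul_eq_zero_of_free hj hrank hd
    exact ⟨g ^ m, fun h => hg (hp.mem_of_pow_mem m h), hm⟩
  have hrad : f ∈ (Fitt.ideal R M r).radical := by
    rw [Ideal.radical_eq_sInf, Ideal.mem_sInf]
    rintro p ⟨hle, hp⟩
    by_contra hfp
    exact (key p hfp).1 hle
  obtain ⟨N, hN⟩ := hrad
  rw [ideal_eq x hx] at hN
  obtain ⟨T, hT, hTS, hNT⟩ := exists_finite_subset_mem_minorsOf hN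
  refine ⟨Ideal.span {f} * minorsOf T (n - r), Submodule.FG.mul (Submodule.fg_span_singleton f)
    (minorsOf_fg hT _), ?_, ?_⟩
  · rw [Ideal.radical_mul, inf_eq_left, Ideal.radical_le_radical_iff, Ideal.span_le, Set.singleton_subset_iff]
    exact ⟨N, hNT⟩
  intro a ha R₁ _ _ e
  have hnzd := self_mem_nonZeroDivisors_blowup e
  refine strictTransform_locallyFree r hnzd ?_ fun j hj d hd => exists_pow_mul_eq_zero_of_forall_prime
    fun p hp hap => (key p (fun hfp => hap ?_)).2 j hj d hd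
  swap
  · obtain ⟨y, -, rfl⟩ := Ideal.mem_span_singleton_mul.1 ha
    exact p.mul_mem_right y hfp
  let xt : Fin n → R₁ ⊗[R] M := TensorProduct.mk R R₁ M 1 ∘ x
  have hxt : Submodule.span R₁ (Set.range xt) = ⊤ :=
    span_range_comp_isBaseChange (TensorProduct.isBaseChange R M R₁) x hx
  let S : Set (Fin n → R₁) := (fun v => algebraMap R R₁ ∘ v) '' T
  have hS : S ⊆ (rels R₁ xt : Set (Fin n → R₁)) := by
    rw [rels_isBaseChange (TensorProduct.isBaseChange R M R₁) x hx]
    exact (Set.image_mono hTS).trans Submodule.subset_span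
  have hI := map_le_span_blowup e
  rw [Ideal.map_mul, Ideal.map_span, Set.image_singleton, map_minorsOf] at hI
  have hmem : algebraMap R R₁ a ∈ Ideal.span {algebraMap R R₁ f} * minorsOf S (n - r) := by
    have := Ideal.mem_map_of_mem (algebraMap R R₁) ha
    rwa [Ideal.map_mul, Ideal.map_span, Set.image_singleton, map_minorsOf] at this
  obtain ⟨y, hy, hya⟩ := Ideal.mem_span_singleton_mul.1 hmem
  obtain ⟨α, hα, hα'⟩ := exists_radical_ideal_quotient xt hxt r (algebraMap R R₁ f) (algebraMap R R₁ a) hS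
    (fun d hd => Ideal.mem_span_singleton.1 (hI (Ideal.mem_span_singleton_mul.2 ⟨d, hd, rfl⟩)))
    (FlatCA.powTorsion R₁ (algebraMap R R₁ a) (R₁ ⊗[R] M)) (fun m hm => mem_powTorsion_of_smul hm) hy
  rw [hya] at hα'
  have h1 : α = 1 := (mul_cancel_left_mem_nonZeroDivisors hnzd).1 (by rw [mul_one]; exact hα'.symm)
  rwa [h1, ← Ideal.eq_top_iff_one, Ideal.radical_eq_top] at hα

end Groth.Agent.FittLib
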