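import Groth.Agent.FittLib.Local
import Groth.Agent.CAlgH3.ProjDim

/-!
# Modules with principal Fitting ideal generated by a nonzerodivisor
-/

universe u v

open Finset Matrix CategoryTheory

namespace Groth.Agent.FittLib

variable {R : Type u} [CommRing R]

theorem pow_mul_minorsOf_le {ι : Type*} {S S' : Set (ι → R)} {c : R} (h : ∀ v ∈ S, c • v ∈ S') {q : ℕ} {d : R}
    (hd : d ∈ minorsOf S q) : c ^ q * d ∈ minorsOf S' q := by
  induction hd using Submodule.span_induction with
  | mem d hd =>
    obtain ⟨z, e, hz, rfl⟩ := hd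
    refine Ideal.subset_span ⟨fun b => c • z b, e, fun b => h _ (hz b), ?_⟩
    rw [show (Matrix.of fun a b => (c • z b) (e a)) = c • Matrix.of fun a b => z b (e a) from rfl,
      det_smul, Fintype.card_fin]
  | zero => simp
  | add p q _ _ hp hq => rw [mul_add]; exact add_mem hp hq
  | smul r p _ hp => rw [smul_eq_mul, mul_left_comm]; exact Ideal.mul_mem_left _ _ hp

theorem exists_uniform_pow_smul {M : Type v} [AddCommGroup M] [Module R M] {ι : Type*} [Fintype ι]
    (y : ι → M) (a : R) (h : ∀ i, ∃ n : ℕ, a ^ n • y i = 0) : ∃ n : ℕ, ∀ i, a ^ n • y i = 0 := by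
  choose n hn using h
  refine ⟨Finset.univ.sup n, fun i => ?_⟩
  obtain ⟨c, hc⟩ := Nat.exists_eq_add_of_le (Finset.le_sup (f := n) (mem_univ i))
  rw [hc, add_comm, pow_add, mul_smul, hn, smul_zero]

theorem projective_of_locallyFree (M : Type u) [AddCommGroup M] [Module R M] [Module.Finite R M]
    (h : ∀ (p : Ideal R) [p.IsPrime], ∃ f : R, f ∉ p ∧
      Module.Free (Localization.Away f) (LocalizedModule (Submonoid.powers f) M)) : Module.Projective R M := by
  let s : Set R := {f | Module.Free (Localization.Away f) (LocalizedModule (Submonoid.powers f) M)}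
  have hs : Ideal.span s = ⊤ := by
    by_contra hne
    obtain ⟨p, hp, hle⟩ := Ideal.exists_le_maximal _ hne
    obtain ⟨f, hf, hfree⟩ := h p
    exact hf (hle (Ideal.subset_span hfree))
  haveI : Module.FinitePresentation R M := by
    refine Module.FinitePresentation.of_localizationSpan s hs fun g => ?_
    haveI : Module.Free (Localization.Away g.1) (LocalizedModule (Submonoid.powers g.1) M) := g.2
    haveI : Module.Finite (Localization.Away g.1) (LocalizedModule (Submonoid.powers g.1) M) :=
      Module.Finite.of_isLocalizedModule (Submonoid.powers g.1) (LocalizedModule.mkLinearMap (Submonoid.powers g.1) M)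
    exact Module.finitePresentation_of_projective _ _
  refine Module.freeLocus_eq_univ_iff.1 (Set.eq_univ_of_forall fun p => ?_)
  obtain ⟨f, hf, hfree⟩ := h p.asIdeal
  haveI := hfree
  exact (Module.basicOpen_subset_freeLocus_iff.2 Module.Projective.of_free :
    (PrimeSpectrum.basicOpen f : Set (PrimeSpectrum R)) ⊆ Module.freeLocus R M) hf

section Square

variable {M : Type v} [AddCommGroup M] [Module R M] {n : ℕ}

theorem mulVec_eq_sum (z : Fin n → Fin n → R) (φ : Fin n → R) (e : Fin n → Fin n) (a : Fin n) :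
    ((Matrix.of fun a b => z b (e a)) *ᵥ φ) a = (∑ b, φ b • z b) (e a) := by
  simp [Matrix.mulVec, dotProduct, Finset.sum_apply, mul_comm]

/-- The module of relations of a module with `Fit₀ = (f)`, `f` a nonzerodivisor, is projective. -/
theorem projective_rels_of_ideal_zero {f : R} (hf : f ∈ nonZeroDivisors R) (x : Fin n → M)
    (hx : Submodule.span R (Set.range x) = ⊤) (hF : Fitt.ideal R M 0 = Ideal.span {f}) :
    Module.Projective R (rels R x) := by
  classical
  have hmin : minorsOf (rels R x : Set (Fin n → R)) n = Ideal.span {f} := by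
    rw [← hF, ideal_eq x hx, Nat.sub_zero]
  have hfmem : f ∈ minorsOf (rels R x : Set (Fin n → R)) n := hmin ▸ Ideal.mem_span_singleton_self f
  obtain ⟨N, c, d, hcd⟩ := Submodule.mem_span_set'.1 hfmem
  have hd : ∀ i, ∃ (z : Fin n → Fin n → R) (e : Fin n → Fin n), (∀ j, z j ∈ rels R x) ∧
      (d i : R) = (Matrix.of fun a b => z b (e a)).det := fun i => (d i).2
  choose z e hz hde using hd
  -- the Cramer coordinates, divided by `f`
  have hdiv : ∀ i (v : rels R x) b, ∃ t, f * t =
      Matrix.cramer (Matrix.of fun a b => z i b (e i a)) ((v : Fin n → R) ∘ e i) b := by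
    intro i v b
    have h : Matrix.cramer (Matrix.of fun a b => z i b (e i a)) ((v : Fin n → R) ∘ e i) b ∈
        minorsOf (rels R x : Set (Fin n → R)) n := by
      rw [Matrix.cramer_apply,
        show (Matrix.of fun a b => z i b (e i a)).updateCol b ((v : Fin n → R) ∘ e i) =
          Matrix.of fun a c => Function.update (z i) b (v : Fin n → R) c (e i a) from by
        ext a c
        by_cases hc : c = b
        · subst hc; simp
        · simp [hc]]
      refine det_mem_of_card _ (fun c => ?_) (e i) (Fintype.card_fin n)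
      by_cases hc : c = b
      · subst hc; simp
      · simpa [hc] using hz i c
    rw [hmin, Ideal.mem_span_singleton] at h
    obtain ⟨t, ht⟩ := h
    exact ⟨t, ht.symm⟩
  choose t ht using hdiv
  let φ : rels R x →ₗ[R] Fin N → Fin n → R :=
    { toFun := fun v i b => t i v b
      map_add' := fun v w => by
        funext i b
        refine (mul_cancel_left_mem_nonZeroDivisors hf).1 ?_
        simp only [Pi.add_apply, mul_add, ht]
        rw [show ((v + w : rels R x) : Fin n → R) ∘ e i = (v : Fin n → R) ∘ e i + (w : Fin n → R) ∘ e i from rfl,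
          map_add, Pi.add_apply]
      map_smul' := fun r v => by
        funext i b
        refine (mul_cancel_left_mem_nonZeroDivisors hf).1 ?_
        simp only [Pi.smul_apply, smul_eq_mul, RingHom.id_apply, mul_left_comm f r, ht]
        rw [show ((r • v : rels R x) : Fin n → R) ∘ e i = r • ((v : Fin n → R) ∘ e i) from rfl,
          map_smul, Pi.smul_apply, smul_eq_mul] }
  let π : (Fin N → Fin n → R) →ₗ[R] rels R x :=
    Fintype.linearCombination R (fun p : Fin N × Fin n => c p.1 • (⟨z p.1 p.2, hz p.1 p.2⟩ : rels R x)) ∘ₗ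
      (LinearEquiv.curry R R (Fin N) (Fin n)).symm.toLinearMap
  refine Module.Projective.of_split φ π (LinearMap.ext fun v => Subtype.ext (funext fun j => ?_))
  refine (mul_cancel_left_mem_nonZeroDivisors hf).1 ?_
  have key : ∀ i, (∑ b, (f * t i v b) * z i b j) = (d i : R) * (v : Fin n → R) j := by
    intro i
    by_cases he : Function.Injective (e i)
    · obtain ⟨a, rfl⟩ := (Finite.injective_iff_surjective.1 he) j
      have h := congrFun (Matrix.mulVec_cramer (Matrix.of fun a b => z i b (e i a)) ((v : Fin n → R) ∘ e i)) a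
      rw [mulVec_eq_sum, Finset.sum_apply] at h
      simpa [ht, hde] using h
    · have h0 : (d i : R) = 0 := by rw [hde, det_eq_zero_of_not_injective _ _ he]
      have hcr : ∀ b, f * t i v b = 0 := fun b => by
        rw [ht, Matrix.cramer_apply]
        simp only [Function.Injective, not_forall] at he
        obtain ⟨a, a', hea, hne⟩ := he
        refine Matrix.det_zero_of_row_eq hne (funext fun c => ?_)
        by_cases hc : c = b
        · subst hc; simp [hea]
        · simp [hc, hea]
      simp [h0, hcr]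
  calc f * ((π (φ v) : rels R x) : Fin n → R) j
      = ∑ i, c i * ∑ b, (f * t i v b) * z i b j := by
        simp [π, φ, Fintype.linearCombination_apply, Fintype.sum_prod_type, Finset.mul_sum, Finset.sum_apply]
        exact Finset.sum_congr rfl fun i _ => Finset.sum_congr rfl fun b _ => by ring
    _ = (∑ i, c i • (d i : R)) * (v : Fin n → R) j := by
        rw [Finset.sum_mul]
        exact Finset.sum_congr rfl fun i _ => by rw [key, smul_eq_mul, mul_assoc]
    _ = f * (v : Fin n → R) j := by rw [hcd]

end Square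

theorem principal_fitting {M : Type u} [AddCommGroup M] [Module R M] [Module.FinitePresentation R M] (k : ℕ)
    (f : R) (hf0 : f ∈ nonZeroDivisors R) (hf : Fitt.ideal R M k = Ideal.span {f})
    (hk : k = 0 ∨ Fitt.ideal R M (k - 1) = ⊥) :
    HasProjectiveDimensionLT (ModuleCat.of R M) 2 ∧
    (∀ x : M, (∃ n : ℕ, f ^ n • x = 0) ↔ f • x = 0) ∧
    HasProjectiveDimensionLT (ModuleCat.of R ↥(LinearMap.ker (f • (LinearMap.id : M →ₗ[R] M)))) 2 ∧
    (∀ (p : Ideal R) [p.IsPrime], ∃ g : R, g ∉ p ∧
      Module.Free (Localization.Away g)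
          (LocalizedModule (Submonoid.powers g) (M ⧸ LinearMap.ker (f • (LinearMap.id : M →ₗ[R] M)))) ∧
        Module.finrank (Localization.Away g)
          (LocalizedModule (Submonoid.powers g) (M ⧸ LinearMap.ker (f • (LinearMap.id : M →ₗ[R] M)))) = k) ∧
    Nonempty (M ≃ₗ[R] (M ⧸ LinearMap.ker (f • (LinearMap.id : M →ₗ[R] M))) ×
      ↥(LinearMap.ker (f • (LinearMap.id : M →ₗ[R] M)))) := by
  let N : Submodule R M := LinearMap.ker (f • (LinearMap.id : M →ₗ[R] M))
  have hN : ∀ m, m ∈ N ↔ f • m = 0 := fun m => by simp [N]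
  have htop : Fitt.ideal R (M ⧸ N) k = ⊤ :=
    ideal_quotient_eq_top k hf0 (hf ▸ Ideal.mem_span_singleton_self f) hf.le N fun m => (hN m).2
  have hbot : ∀ j, j < k → Fitt.ideal R (M ⧸ N) j = ⊥ := by
    intro j hj
    have h0 : Fitt.ideal R M (k - 1) = ⊥ := hk.resolve_left (by omega)
    refine (Submodule.eq_bot_iff _).2 fun d hd => ?_
    obtain ⟨n, x, hx⟩ := exists_generators R M
    rw [ideal_eq (N.mkQ ∘ x) (span_range_comp_eq_top _ N.mkQ_surjective x hx)] at hd
    have h := pow_mul_minorsOf_le (c := f) (S' := (rels R x : Set (Fin n → R))) (fun v hv => ?_) hd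
    · rw [← ideal_eq x hx] at h
      have h' := (ideal_mono (show j ≤ k - 1 by omega)) h
      rw [h0, Submodule.mem_bot] at h'
      exact (mul_right_mem_nonZeroDivisors_eq_zero_iff (pow_mem hf0 _)).1 (by rwa [mul_comm] at h')
    · refine mem_rels.2 ?_
      simp only [Pi.smul_apply, smul_eq_mul, mul_smul, ← Finset.smul_sum]
      refine (hN _).1 ((Submodule.Quotient.mk_eq_zero N).1 ?_)
      simpa [← Submodule.mkQ_apply, map_sum] using mem_rels.1 hv
  have hlf := (locallyFree_iff (M := M ⧸ N) k).2 ⟨hbot, fun j hj => top_le_iff.1 (htop ▸ ideal_mono hj)⟩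
  haveI hproj : Module.Projective R (M ⧸ N) :=
    projective_of_locallyFree _ fun p hp => let ⟨g, hg, hfree, _⟩ := hlf p; ⟨g, hg, hfree⟩
  obtain ⟨s, hs⟩ := Module.projective_lifting_property N.mkQ LinearMap.id N.mkQ_surjective
  have hs' : ∀ q, N.mkQ (s q) = q := fun q => LinearMap.congr_fun hs q
  let r : M →ₗ[R] N := LinearMap.codRestrict N (LinearMap.id - s ∘ₗ N.mkQ) fun m => by
    refine (Submodule.Quotient.mk_eq_zero N).1 ?_
    show N.mkQ (m - s (N.mkQ m)) = 0
    rw [map_sub, hs', sub_self]
  let e : M ≃ₗ[R] (M ⧸ N) × N :=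
    { N.mkQ.prod r with
      invFun := fun p => s p.1 + p.2
      left_inv := fun m => by simp [r]
      right_inv := fun p => by
        have h1 : N.mkQ (s p.1 + p.2) = p.1 := by
          rw [map_add, hs', (LinearMap.mem_ker (f := N.mkQ)).1 (N.ker_mkQ.symm ▸ p.2.2), add_zero]
        refine Prod.ext h1 (Subtype.ext ?_)
        show (s p.1 + p.2 : M) - s (N.mkQ (s p.1 + p.2)) = p.2
        rw [h1, add_sub_cancel_left] }
  haveI : Module.Finite R N := Module.Finite.of_surjective r fun m => ⟨m, by
    refine Subtype.ext ?_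
    show (m : M) - s (N.mkQ m) = m
    rw [(LinearMap.mem_ker (f := N.mkQ)).1 (N.ker_mkQ.symm ▸ m.2), map_zero, sub_zero]⟩
  have hF : Fitt.ideal R N 0 = Ideal.span {f} := by
    rw [← hf, ideal_congr e, ideal_prod, Finset.sum_eq_single k]
    · rw [htop, Ideal.top_mul, Nat.sub_self]
    · intro j hj hjk
      rw [hbot j (by have := Finset.mem_range.1 hj; omega), Submodule.bot_mul]
      rfl
    · simp
  have hpdN : CAlgH3.PD R 2 N := by
    obtain ⟨m, y, hy⟩ := exists_generators R N
    have hsurj : Function.Surjective (Fintype.linearCombination R y) := by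
      rw [← LinearMap.range_eq_top, Fintype.range_linearCombination, hy]
    rw [CAlgH3.pd_ker_iff hsurj 0, CAlgH3.pd_one_iff]
    exact projective_rels_of_ideal_zero hf0 y hy hF
  refine ⟨?_, fun m => ⟨fun ⟨t, ht⟩ => ?_, fun h => ⟨1, by rwa [pow_one]⟩⟩, hpdN, hlf, ⟨e⟩⟩
  · refine (CAlgH3.pd_congr e).2 ?_
    exact (CAlgH3.pd_of_ses (LinearMap.inl R (M ⧸ N) N) (LinearMap.snd R (M ⧸ N) N) LinearMap.inl_injective
      LinearMap.snd_surjective Function.Exact.inl_snd).1 (CAlgH3.pd_mono one_le_two (CAlgH3.pd_one_iff.2 hproj)) hpdN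
  · haveI : Module.Flat R (M ⧸ N) := Module.Flat.of_projective
    have h0 : N.mkQ m = 0 :=
      (Module.Flat.isSMulRegular_of_nonZeroDivisors (M := M ⧸ N) (pow_mem hf0 t)) (by
        simpa only [map_smul, map_zero, smul_zero] using congrArg N.mkQ ht)
    exact (hN m).1 (by rwa [← LinearMap.mem_ker, N.ker_mkQ] at h0)

end Groth.Agent.FittLib
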