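import Groth.Agent.FittLib.KaehlerPresentation
import Groth.Agent.AdicRing.Basic
import Mathlib

/-!
# Completed differentials of a quotient of a restricted power series ring

`R` any ring, `t : R`, `Ã` the `t`-adic completion of `R[T_1, …, T_r]`, and `B = Ã/(a_1, …, a_c)`,
Noetherian and `t`-adically complete.
-/

universe u

open Finset MvPolynomial KaehlerDifferential TensorProduct

namespace Groth.Agent.FittLib

section KaehlerMod

variable {R B : Type u} [CommRing R] [CommRing B] [Algebra R B] (u : B)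

theorem mem_smul_top_of_map_eq_zero (hu : D R B u = 0) {ω : Ω[B⁄R]}
    (h : KaehlerDifferential.map R R B (B ⧸ Ideal.span {u}) ω = 0) :
    ω ∈ Ideal.span {u} • (⊤ : Submodule B Ω[B⁄R]) := by
  classical
  let J : Ideal B := Ideal.span {u}
  let W : Submodule B Ω[B⁄R] := J • ⊤
  have hkill : ∀ y ∈ J, W.mkQ (D R B y) = 0 := fun y hy => by
    obtain ⟨z, rfl⟩ := Ideal.mem_span_singleton'.1 hy
    refine (Submodule.Quotient.mk_eq_zero W).2 ?_
    rw [Derivation.leibniz, hu, smul_zero, zero_add]
    exact Submodule.smul_mem_smul (Ideal.mem_span_singleton_self u) Submodule.mem_top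
  have hq : Function.Surjective (Ideal.Quotient.mk J) := Ideal.Quotient.mk_surjective
  let s := Function.surjInv hq
  have hs : ∀ y, Ideal.Quotient.mk J (s y) = y := Function.surjInv_eq hq
  have hwd : ∀ f, W.mkQ (D R B (s (Ideal.Quotient.mk J f))) = W.mkQ (D R B f) := fun f => by
    rw [← sub_eq_zero, ← map_sub, ← map_sub]
    refine hkill _ ?_
    rw [← Ideal.Quotient.mk_eq_mk_iff_sub_mem, hs]
  let L : (B ⧸ J) →ₗ[R] (Ω[B⁄R] ⧸ W) :=
    { toFun := fun y => W.mkQ (D R B (s y))
      map_add' := fun p q => by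
        obtain ⟨p, rfl⟩ := hq p
        obtain ⟨q, rfl⟩ := hq q
        rw [← map_add, hwd, hwd, hwd, map_add, map_add]
      map_smul' := fun r p => by
        obtain ⟨p, rfl⟩ := hq p
        rw [show r • Ideal.Quotient.mk J p = Ideal.Quotient.mk J (r • p) from rfl, hwd, hwd, Derivation.map_smul]
        rfl }
  let D' : Derivation R (B ⧸ J) (Ω[B⁄R] ⧸ W) := Derivation.mk' L fun p q => by
    obtain ⟨p, rfl⟩ := hq p
    obtain ⟨q, rfl⟩ := hq q
    show W.mkQ (D R B (s (Ideal.Quotient.mk J p * Ideal.Quotient.mk J q))) =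
      Ideal.Quotient.mk J p • W.mkQ (D R B (s (Ideal.Quotient.mk J q))) +
        Ideal.Quotient.mk J q • W.mkQ (D R B (s (Ideal.Quotient.mk J p)))
    rw [← map_mul, hwd, hwd, hwd, Derivation.leibniz, map_add, map_smul, map_smul]
    rfl
  have key : ∀ ω : Ω[B⁄R],
      D'.liftKaehlerDifferential (KaehlerDifferential.map R R B (B ⧸ J) ω) = W.mkQ ω := by
    intro ω
    have hω : ω ∈ Submodule.span B (Set.range (D R B)) := by rw [span_range_derivation]; trivial
    induction hω using Submodule.span_induction with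
    | mem ω hω =>
      obtain ⟨y, rfl⟩ := hω
      rw [map_D, Derivation.liftKaehlerDifferential_comp_D]
      exact hwd y
    | zero => simp
    | add p q _ _ hp hq => simp only [map_add, hp, hq]
    | smul b p _ hp =>
      rw [show KaehlerDifferential.map R R B (B ⧸ J) (b • p) =
          Ideal.Quotient.mk J b • KaehlerDifferential.map R R B (B ⧸ J) p by
        rw [map_smul, ← algebraMap_smul (B ⧸ J) b (KaehlerDifferential.map R R B (B ⧸ J) p)]; rfl, map_smul, hp]
      rfl
  have := key ω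
  rw [show KaehlerDifferential.map R R B (B ⧸ J) ω = 0 from h, map_zero] at this
  exact (Submodule.Quotient.mk_eq_zero W).1 this.symm

theorem map_eq_zero_of_mem_smul_top {ω : Ω[B⁄R]} (h : ω ∈ Ideal.span {u} • (⊤ : Submodule B Ω[B⁄R])) :
    KaehlerDifferential.map R R B (B ⧸ Ideal.span {u}) ω = 0 := by
  refine Submodule.smul_induction_on h (fun b hb p _ => ?_) (fun p q hp hq => ?_)
  · rw [map_smul, ← algebraMap_smul (B ⧸ Ideal.span {u}) b]
    rw [show algebraMap B (B ⧸ Ideal.span {u}) b = 0 from Ideal.Quotient.eq_zero_iff_mem.2 hb, zero_smul]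
  · rw [map_add, hp, hq, add_zero]

end KaehlerMod

section Completion

variable {R : Type u} [CommRing R] (t : R) (r : ℕ)

/-- The ideal generated by the constant `t`. -/
noncomputable abbrev tI : Ideal (MvPolynomial (Fin r) R) := Ideal.span {MvPolynomial.C (σ := Fin r) t}

/-- The completed polynomial ring. -/
abbrev PolyHat : Type u := AdicCompletion (tI t r) (MvPolynomial (Fin r) R)

theorem algebraMap_C_eq (s : R) :
    algebraMap (MvPolynomial (Fin r) R) (PolyHat t r) (C s) = algebraMap R (PolyHat t r) s := by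
  rw [← MvPolynomial.algebraMap_eq, ← IsScalarTower.algebraMap_apply]

theorem evalₐ_eq_zero_iff (N : ℕ) (x : PolyHat t r) :
    AdicCompletion.evalₐ (tI t r) N x = 0 ↔ x ∈ Ideal.span {algebraMap R (PolyHat t r) t ^ N} := by
  have hfg : (tI t r).FG := ⟨{C t}, by simp⟩
  have h1 : AdicCompletion.evalₐ (tI t r) N x = 0 ↔
      AdicCompletion.eval (tI t r) (MvPolynomial (Fin r) R) N x = 0 := by
    constructor
    · intro h
      rw [← AdicCompletion.factor_evalₐ_eq_eval (I := tI t r) x (by simp), h, map_zero]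
    · intro h
      rw [← AdicCompletion.factor_eval_eq_evalₐ (I := tI t r) x (by simp), h, map_zero]
  rw [h1, ← LinearMap.mem_ker, ← AdicCompletion.pow_smul_top_eq_ker_eval hfg, Ideal.smul_top_eq_map,
    Submodule.restrictScalars_mem, Ideal.span_singleton_pow, Ideal.map_span, Set.image_singleton, map_pow,
    algebraMap_C_eq]

theorem exists_sub_of_mem (N : ℕ) (x : PolyHat t r) :
    ∃ p, x - algebraMap (MvPolynomial (Fin r) R) (PolyHat t r) p ∈ Ideal.span {algebraMap R (PolyHat t r) t ^ N} := by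
  obtain ⟨p, hp⟩ := Ideal.Quotient.mk_surjective (AdicCompletion.evalₐ (tI t r) N x)
  refine ⟨p, (evalₐ_eq_zero_iff t r N _).1 ?_⟩
  rw [map_sub, sub_eq_zero, ← hp, AlgHom.commutes]
  rfl

theorem mem_of_algebraMap_mem (N : ℕ) (p : MvPolynomial (Fin r) R)
    (h : algebraMap (MvPolynomial (Fin r) R) (PolyHat t r) p ∈ Ideal.span {algebraMap R (PolyHat t r) t ^ N}) :
    p ∈ Ideal.span {C (σ := Fin r) t ^ N} := by
  rw [← evalₐ_eq_zero_iff, AlgHom.commutes] at h
  rw [← Ideal.span_singleton_pow]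
  exact Ideal.Quotient.eq_zero_iff_mem.1 h

variable {t r} {B : Type u} [CommRing B] [Algebra R B] (ψ : PolyHat t r →ₐ[R] B)

theorem map_mem_span_pow (N : ℕ) {x : PolyHat t r} (h : x ∈ Ideal.span {algebraMap R (PolyHat t r) t ^ N}) :
    ψ x ∈ Ideal.span {algebraMap R B t ^ N} := by
  rw [Ideal.mem_span_singleton] at h ⊢
  have := map_dvd ψ h
  rwa [map_pow, AlgHom.commutes] at this

/-- The level map. -/
noncomputable def piLevel (N : ℕ) : MvPolynomial (Fin r) R →ₐ[R] B ⧸ Ideal.span {algebraMap R B t ^ N} :=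
  (Ideal.Quotient.mkₐ R _).comp (ψ.comp (IsScalarTower.toAlgHom R (MvPolynomial (Fin r) R) (PolyHat t r)))

theorem piLevel_apply (N : ℕ) (p : MvPolynomial (Fin r) R) :
    piLevel ψ N p = Ideal.Quotient.mk _ (ψ (algebraMap (MvPolynomial (Fin r) R) (PolyHat t r) p)) := rfl

theorem piLevel_surjective (hψ : Function.Surjective ψ) (N : ℕ) : Function.Surjective (piLevel ψ N) := by
  intro y
  obtain ⟨y, rfl⟩ := Ideal.Quotient.mk_surjective y
  obtain ⟨x, rfl⟩ := hψ y
  obtain ⟨p, hp⟩ := exists_sub_of_mem t r N x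
  refine ⟨p, (Ideal.Quotient.mk_eq_mk_iff_sub_mem _ _).2 ?_⟩
  rw [← neg_mem_iff, neg_sub]
  have := map_mem_span_pow ψ N hp
  rwa [map_sub] at this

variable {c : ℕ} (a : Fin c → PolyHat t r)

theorem ker_piLevel (hker : RingHom.ker ψ.toRingHom = Ideal.span (Set.range a))
    (hψ : Function.Surjective ψ) (N : ℕ) (l : Fin c → MvPolynomial (Fin r) R)
    (hl : ∀ b, a b - algebraMap (MvPolynomial (Fin r) R) (PolyHat t r) (l b) ∈ Ideal.span {algebraMap R (PolyHat t r) t ^ N}) :
    RingHom.ker (piLevel ψ N).toRingHom =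
      Ideal.span (Set.range fun o : Option (Fin c) => o.elim (C t ^ N) l) := by
  refine le_antisymm (fun p hp => ?_) (Ideal.span_le.2 ?_)
  · have hp' : ψ (algebraMap (MvPolynomial (Fin r) R) (PolyHat t r) p) ∈ Ideal.span {algebraMap R B t ^ N} :=
      Ideal.Quotient.eq_zero_iff_mem.1 (RingHom.mem_ker.1 hp)
    obtain ⟨y, hy⟩ := Ideal.mem_span_singleton'.1 hp'
    obtain ⟨y, rfl⟩ := hψ y
    have hm : algebraMap (MvPolynomial (Fin r) R) (PolyHat t r) p - y * algebraMap R (PolyHat t r) t ^ N ∈ Ideal.span (Set.range a) := by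
      rw [← hker, RingHom.mem_ker]
      show ψ _ = 0
      rw [map_sub, map_mul, map_pow, AlgHom.commutes, hy, sub_self]
    obtain ⟨w, hw⟩ := Ideal.mem_span_range_iff_exists_fun.1 hm
    choose q hq using fun b => exists_sub_of_mem t r N (w b)
    have h2 : algebraMap (MvPolynomial (Fin r) R) (PolyHat t r) (p - ∑ b, q b * l b) ∈
        Ideal.span {algebraMap R (PolyHat t r) t ^ N} := by
      have e : algebraMap (MvPolynomial (Fin r) R) (PolyHat t r) (p - ∑ b, q b * l b) =
          y * algebraMap R (PolyHat t r) t ^ N +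
          ∑ b, ((w b - algebraMap (MvPolynomial (Fin r) R) (PolyHat t r) (q b)) * a b +
            algebraMap (MvPolynomial (Fin r) R) (PolyHat t r) (q b) * (a b - algebraMap (MvPolynomial (Fin r) R) (PolyHat t r) (l b))) := by
        have e2 : algebraMap (MvPolynomial (Fin r) R) (PolyHat t r) p = y * algebraMap R (PolyHat t r) t ^ N + ∑ b, w b * a b := by
          rw [hw]; ring
        rw [map_sub, map_sum, e2, add_sub_assoc, ← Finset.sum_sub_distrib]
        congr 1
        refine Finset.sum_congr rfl fun b _ => ?_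
        rw [map_mul]
        ring
      rw [e]
      exact add_mem (Ideal.mul_mem_left _ _ (Ideal.mem_span_singleton_self _)) (Ideal.sum_mem _ fun b _ =>
        add_mem (Ideal.mul_mem_right _ _ (hq b)) (Ideal.mul_mem_left _ _ (hl b)))
    obtain ⟨s, hs⟩ := Ideal.mem_span_singleton'.1 (mem_of_algebraMap_mem t r N _ h2)
    rw [show p = s * C t ^ N + ∑ b, q b * l b by rw [hs, sub_add_cancel]]
    exact add_mem (Ideal.mul_mem_left _ _ (Ideal.subset_span ⟨none, rfl⟩))
      (Ideal.sum_mem _ fun b _ => Ideal.mul_mem_left _ _ (Ideal.subset_span ⟨some b, rfl⟩))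
  · rintro _ ⟨o, rfl⟩
    rcases o with _ | b
    · refine RingHom.mem_ker.2 ?_
      show piLevel ψ N (C t ^ N) = 0
      rw [piLevel_apply, map_pow, algebraMap_C_eq, map_pow, AlgHom.commutes, Ideal.Quotient.eq_zero_iff_mem]
      exact Ideal.mem_span_singleton_self _
    · refine RingHom.mem_ker.2 ?_
      show piLevel ψ N (l b) = 0
      rw [piLevel_apply, Ideal.Quotient.eq_zero_iff_mem]
      have h := map_mem_span_pow ψ N (hl b)
      rw [map_sub, show ψ (a b) = 0 from RingHom.mem_ker.1 (hker.ge (Ideal.subset_span ⟨b, rfl⟩)), zero_sub] at h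
      exact neg_mem_iff.1 h

theorem pderiv_mem_span_pow (N : ℕ) (i : Fin r) {p : MvPolynomial (Fin r) R}
    (h : p ∈ Ideal.span {C (σ := Fin r) t ^ N}) : pderiv i p ∈ Ideal.span {C (σ := Fin r) t ^ N} := by
  obtain ⟨s, rfl⟩ := Ideal.mem_span_singleton'.1 h
  rw [pderiv_mul, ← map_pow, pderiv_C, mul_zero, add_zero]
  exact Ideal.mul_mem_left _ _ (Ideal.mem_span_singleton_self _)

/-- The generators of the completed differentials. -/
noncomputable def xHat (i : Fin r) : AdicCompletion (Ideal.span {algebraMap R B t}) Ω[B⁄R] :=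
  AdicCompletion.of (Ideal.span {algebraMap R B t}) Ω[B⁄R] (D R B (ψ (algebraMap (MvPolynomial (Fin r) R) (PolyHat t r) (X i))))

theorem map_sum_smul (N : ℕ) (v : Fin r → B) :
    KaehlerDifferential.map R R B (B ⧸ Ideal.span {algebraMap R B t ^ N})
      (∑ i, v i • D R B (ψ (algebraMap (MvPolynomial (Fin r) R) (PolyHat t r) (X i)))) =
      ∑ i, Ideal.Quotient.mk (Ideal.span {algebraMap R B t ^ N}) (v i) • dGen (piLevel ψ N) i := by
  rw [map_sum]
  refine Finset.sum_congr rfl fun i _ => ?_
  rw [map_smul, map_D, ← algebraMap_smul (B ⧸ Ideal.span {algebraMap R B t ^ N}) (v i)]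
  rfl

theorem D_pow_eq_zero (N : ℕ) : D R B (algebraMap R B t ^ N) = 0 := by
  rw [← map_pow, Derivation.map_algebraMap]

variable [IsNoetherianRing B] [IsAdicComplete (Ideal.span {algebraMap R B t}) B]

theorem exists_jacobian :
    ∃ J : Fin c → Fin r → B, ∀ (N : ℕ) (b : Fin c) (i : Fin r) (p : MvPolynomial (Fin r) R),
      a b - algebraMap (MvPolynomial (Fin r) R) (PolyHat t r) p ∈ Ideal.span {algebraMap R (PolyHat t r) t ^ N} →
      J b i - ψ (algebraMap (MvPolynomial (Fin r) R) (PolyHat t r) (pderiv i p)) ∈ Ideal.span {algebraMap R B t ^ N} := by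
  choose l hl using fun (N : ℕ) (b : Fin c) => exists_sub_of_mem t r N (a b)
  have key : ∀ (M N : ℕ), M ≤ N → ∀ b i (p q : MvPolynomial (Fin r) R),
      a b - algebraMap (MvPolynomial (Fin r) R) (PolyHat t r) p ∈ Ideal.span {algebraMap R (PolyHat t r) t ^ M} →
      a b - algebraMap (MvPolynomial (Fin r) R) (PolyHat t r) q ∈ Ideal.span {algebraMap R (PolyHat t r) t ^ N} →
      ψ (algebraMap (MvPolynomial (Fin r) R) (PolyHat t r) (pderiv i p)) - ψ (algebraMap (MvPolynomial (Fin r) R) (PolyHat t r) (pderiv i q)) ∈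
        Ideal.span {algebraMap R B t ^ M} := by
    intro M N hMN b i p q hp hq
    have hq' : a b - algebraMap (MvPolynomial (Fin r) R) (PolyHat t r) q ∈ Ideal.span {algebraMap R (PolyHat t r) t ^ M} :=
      Ideal.span_singleton_le_span_singleton.2 (pow_dvd_pow _ hMN) hq
    have h := sub_mem hq' hp
    rw [sub_sub_sub_cancel_left, ← map_sub] at h
    have h2 := pderiv_mem_span_pow M i (mem_of_algebraMap_mem t r M _ h)
    rw [← map_sub, ← map_sub, ← map_sub]
    refine map_mem_span_pow ψ M ?_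
    obtain ⟨s, hs⟩ := Ideal.mem_span_singleton'.1 h2
    rw [← hs, map_mul, map_pow, algebraMap_C_eq]
    exact Ideal.mul_mem_left _ _ (Ideal.mem_span_singleton_self _)
  have hex : ∀ b i, ∃ L : B, ∀ N : ℕ,
      ψ (algebraMap (MvPolynomial (Fin r) R) (PolyHat t r) (pderiv i (l N b))) ≡ L
        [SMOD (Ideal.span {algebraMap R B t} ^ N • ⊤ : Submodule B B)] := fun b i =>
    IsPrecomplete.prec' (I := Ideal.span {algebraMap R B t}) _ fun {M N} hMN => by
      rw [SModEq.sub_mem, smul_eq_mul, Ideal.mul_top, Ideal.span_singleton_pow]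
      exact key M N hMN b i _ _ (hl M b) (hl N b)
  choose J hJ using hex
  refine ⟨J, fun N b i p hp => ?_⟩
  have h := hJ b i N
  rw [SModEq.sub_mem, smul_eq_mul, Ideal.mul_top, Ideal.span_singleton_pow] at h
  have h2 := key N N le_rfl b i _ _ hp (hl N b)
  have := neg_mem (add_mem h h2)
  convert this using 1
  ring

variable {a}

theorem rels_dGen_piLevel (hker : RingHom.ker ψ.toRingHom = Ideal.span (Set.range a))
    (hψ : Function.Surjective ψ) (J : Fin c → Fin r → B)
    (hJ : ∀ (N : ℕ) (b : Fin c) (i : Fin r) (p : MvPolynomial (Fin r) R),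
      a b - algebraMap (MvPolynomial (Fin r) R) (PolyHat t r) p ∈ Ideal.span {algebraMap R (PolyHat t r) t ^ N} →
      J b i - ψ (algebraMap (MvPolynomial (Fin r) R) (PolyHat t r) (pderiv i p)) ∈ Ideal.span {algebraMap R B t ^ N}) (N : ℕ) :
    rels (B ⧸ Ideal.span {algebraMap R B t ^ N}) (dGen (piLevel ψ N)) =
      Submodule.span _ (Set.range fun b i => Ideal.Quotient.mk (Ideal.span {algebraMap R B t ^ N}) (J b i)) := by
  choose l hl using fun b : Fin c => exists_sub_of_mem t r N (a b)
  rw [rels_dGen (piLevel ψ N) (piLevel_surjective ψ hψ N) _ (ker_piLevel ψ a hker hψ N l hl)]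
  have hrow : ∀ b, (fun i => piLevel ψ N (pderiv i (l b))) =
      fun i => Ideal.Quotient.mk (Ideal.span {algebraMap R B t ^ N}) (J b i) := fun b => by
    funext i
    rw [piLevel_apply, Ideal.Quotient.mk_eq_mk_iff_sub_mem, ← neg_mem_iff, neg_sub]
    exact hJ N b i _ (hl b)
  refine le_antisymm (Submodule.span_le.2 ?_) (Submodule.span_le.2 ?_)
  · rintro _ ⟨_ | b, rfl⟩
    · show (fun i => piLevel ψ N (pderiv i (C t ^ N))) ∈ _
      rw [show (fun i : Fin r => piLevel ψ N (pderiv i (C (σ := Fin r) t ^ N))) = 0 from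
        funext fun i => by rw [← C_pow (n := N), pderiv_C, map_zero]; rfl]
      exact zero_mem _
    · show (fun i => piLevel ψ N (pderiv i (l b))) ∈ _
      rw [hrow b]
      exact Submodule.subset_span ⟨b, rfl⟩
  · rintro _ ⟨b, rfl⟩
    show (fun i => Ideal.Quotient.mk (Ideal.span {algebraMap R B t ^ N}) (J b i)) ∈ _
    rw [← hrow b]
    exact Submodule.subset_span ⟨some b, rfl⟩

theorem of_eq_zero_iff (ω : Ω[B⁄R]) :
    AdicCompletion.of (Ideal.span {algebraMap R B t}) Ω[B⁄R] ω = 0 ↔
      ∀ N, KaehlerDifferential.map R R B (B ⧸ Ideal.span {algebraMap R B t ^ N}) ω = 0 := by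
  rw [AdicCompletion.ext_iff]
  refine forall_congr' fun N => ?_
  rw [AdicCompletion.val_zero, Pi.zero_apply, AdicCompletion.of_apply, Submodule.mkQ_apply,
    Submodule.Quotient.mk_eq_zero, Ideal.span_singleton_pow]
  exact ⟨map_eq_zero_of_mem_smul_top _, mem_smul_top_of_map_eq_zero _ (D_pow_eq_zero N)⟩

theorem mk_sum_row (N : ℕ) (J : Fin c → Fin r → B) (w : Fin c → B) :
    (fun i => Ideal.Quotient.mk (Ideal.span {algebraMap R B t ^ N}) ((∑ b, w b • J b) i)) =
      ∑ b, Ideal.Quotient.mk (Ideal.span {algebraMap R B t ^ N}) (w b) •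
        fun i => Ideal.Quotient.mk (Ideal.span {algebraMap R B t ^ N}) (J b i) := by
  funext i
  simp [Finset.sum_apply]

theorem completed_presentation (hker : RingHom.ker ψ.toRingHom = Ideal.span (Set.range a))
    (hψ : Function.Surjective ψ) (J : Fin c → Fin r → B)
    (hJ : ∀ (N : ℕ) (b : Fin c) (i : Fin r) (p : MvPolynomial (Fin r) R),
      a b - algebraMap (MvPolynomial (Fin r) R) (PolyHat t r) p ∈ Ideal.span {algebraMap R (PolyHat t r) t ^ N} →
      J b i - ψ (algebraMap (MvPolynomial (Fin r) R) (PolyHat t r) (pderiv i p)) ∈ Ideal.span {algebraMap R B t ^ N}) :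
    Submodule.span B (Set.range (xHat ψ)) = ⊤ ∧ rels B (xHat ψ) = Submodule.span B (Set.range J) := by
  classical
  set I : Ideal B := Ideal.span {algebraMap R B t}
  have hfg : I.FG := Submodule.fg_span_singleton _
  haveI := AdicCompletion.isAdicComplete (M := Ω[B⁄R]) hfg
  haveI := AdicRing.isAdicComplete_of_finite I (Fin r → B)
  refine ⟨?_, le_antisymm (fun v hv => ?_) (Submodule.span_le.2 ?_)⟩
  · rw [← Fintype.range_linearCombination, LinearMap.range_eq_top]
    refine surjective_of_mkQ_comp_surjective (I := I) fun q => ?_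
    obtain ⟨y, rfl⟩ := Submodule.mkQ_surjective _ q
    obtain ⟨ω, hω⟩ := Submodule.Quotient.mk_surjective _ (AdicCompletion.eval I Ω[B⁄R] 1 y)
    have hsp := span_dGen (piLevel ψ 1) (piLevel_surjective ψ hψ 1)
    obtain ⟨v, hv⟩ := (Submodule.mem_span_range_iff_exists_fun _).1
      (hsp ▸ Submodule.mem_top : KaehlerDifferential.map R R B (B ⧸ Ideal.span {algebraMap R B t ^ 1}) ω ∈ _)
    choose v hv' using fun i => Ideal.Quotient.mk_surjective (v i)
    simp only [← hv'] at hv
    refine ⟨v, (Submodule.Quotient.eq _).2 ?_⟩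
    have h1 : ω - ∑ i, v i • D R B (ψ (algebraMap (MvPolynomial (Fin r) R) (PolyHat t r) (X i))) ∈ I ^ 1 • (⊤ : Submodule B Ω[B⁄R]) := by
      rw [Ideal.span_singleton_pow]
      refine mem_smul_top_of_map_eq_zero _ (D_pow_eq_zero 1) ?_
      rw [map_sub, map_sum_smul, hv, sub_self]
    rw [← pow_one I, AdicCompletion.pow_smul_top_eq_ker_eval hfg, LinearMap.mem_ker, map_sub, ← hω,
      Fintype.linearCombination_apply, show ∑ i, v i • xHat ψ i =
        AdicCompletion.of I Ω[B⁄R] (∑ i, v i • D R B (ψ (algebraMap (MvPolynomial (Fin r) R) (PolyHat t r) (X i)))) by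
          simp [xHat, I, map_sum]]
    rw [AdicCompletion.eval_apply, AdicCompletion.of_apply, Submodule.mkQ_apply, sub_eq_zero]
    exact ((Submodule.Quotient.eq _).2 h1).symm
  · let W := Submodule.span B (Set.range J)
    haveI : IsHausdorff I ((Fin r → B) ⧸ W) :=
      IsHausdorff.of_le_jacobson I _ (IsAdicComplete.le_jacobson_bot I)
    have h0 : AdicCompletion.of I Ω[B⁄R] (∑ i, v i • D R B (ψ (algebraMap (MvPolynomial (Fin r) R) (PolyHat t r) (X i)))) = 0 := by
      rw [map_sum]
      simpa [xHat, I, map_smul] using mem_rels.1 hv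
    rw [of_eq_zero_iff] at h0
    refine (Submodule.Quotient.mk_eq_zero W).1 (IsHausdorff.haus (I := I) inferInstance (W.mkQ v) fun N => ?_)
    have h := h0 N
    rw [map_sum_smul, ← mem_rels, rels_dGen_piLevel ψ hker hψ J hJ N] at h
    obtain ⟨w, hw⟩ := (Submodule.mem_span_range_iff_exists_fun _).1 h
    choose w hw' using fun b => Ideal.Quotient.mk_surjective (w b)
    simp only [← hw'] at hw
    rw [← mk_sum_row] at hw
    rw [SModEq.zero, show W.mkQ v = W.mkQ (v - ∑ b, w b • J b) from ?_]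
    · have hmem : v - ∑ b, w b • J b ∈ I ^ N • (⊤ : Submodule B (Fin r → B)) := by
        rw [Ideal.span_singleton_pow]
        choose d hd using fun i => Ideal.mem_span_singleton'.1
          ((Ideal.Quotient.mk_eq_mk_iff_sub_mem (I := Ideal.span {algebraMap R B t ^ N}) _ _).1
            (congrFun hw i).symm)
        rw [show v - ∑ b, w b • J b = algebraMap R B t ^ N • d from funext fun i => by
          rw [Pi.sub_apply, Pi.smul_apply, smul_eq_mul, mul_comm, hd]]
        exact Submodule.smul_mem_smul (Ideal.mem_span_singleton_self _) Submodule.mem_top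
      exact Submodule.smul_top_le_comap_smul_top _ W.mkQ hmem
    · refine (Submodule.Quotient.eq W).2 ?_
      rw [sub_sub_cancel]
      exact Submodule.sum_mem _ fun b _ => Submodule.smul_mem _ _ (Submodule.subset_span ⟨b, rfl⟩)
  · rintro _ ⟨b, rfl⟩
    refine mem_rels.2 ?_
    rw [show ∑ i, J b i • xHat ψ i =
      AdicCompletion.of I Ω[B⁄R] (∑ i, J b i • D R B (ψ (algebraMap (MvPolynomial (Fin r) R) (PolyHat t r) (X i)))) by
        simp [xHat, I, map_sum], of_eq_zero_iff]
    intro N
    rw [map_sum_smul, ← mem_rels, rels_dGen_piLevel ψ hker hψ J hJ N]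
    exact Submodule.subset_span ⟨b, rfl⟩

end Completion

end Groth.Agent.FittLib
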