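import Groth.Agent.FittLib.Basic
import Groth.Agent.CAlgH.RegularFlatParam
import Mathlib

/-!
# The conormal sequence of a reduced complete intersection over a perfect field is left exact
-/

universe u

open Finset MvPolynomial KaehlerDifferential TensorProduct IsLocalRing

namespace Groth.Agent.FittLib

section Local

variable {k P K : Type u} [Field k] [PerfectField k] [CommRing P] [IsLocalRing P] [IsNoetherianRing P] [Algebra k P]
  [Algebra.EssFiniteType k P] [Algebra.FormallySmooth k P]

theorem residue_indep_of_span_eq {c : ℕ} (a : Fin c → P) (ha : Ideal.span (Set.range a) = maximalIdeal P)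
    (hdim : (c : WithBot ℕ∞) ≤ ringKrullDim P) (w : Fin c → P)
    (hw : (1 : ResidueField P) ⊗ₜ[P] D k P (∑ b, w b * a b) = 0) (b₀ : Fin c) : w b₀ ∈ maximalIdeal P := by
  classical
  haveI : Algebra.EssFiniteType k (ResidueField P) := Algebra.EssFiniteType.comp k P (ResidueField P)
  haveI : Algebra.FormallySmooth k (ResidueField P) := inferInstance
  have hsurj : Function.Surjective (algebraMap P (ResidueField P)) := Ideal.Quotient.mk_surjective
  obtain ⟨l, hl⟩ := (Algebra.FormallySmooth.iff_split_injection (R := k) hsurj).1 inferInstance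
  have hmem : ∑ b, w b * a b ∈ RingHom.ker (algebraMap P (ResidueField P)) := by
    rw [show RingHom.ker (algebraMap P (ResidueField P)) = maximalIdeal P from Ideal.mk_ker, ← ha]
    exact Ideal.sum_mem _ fun b _ => Ideal.mul_mem_left _ _ (Ideal.subset_span ⟨b, rfl⟩)
  have hsq : ∑ b, w b * a b ∈ maximalIdeal P ^ 2 := by
    have h := congrArg l (show kerCotangentToTensor k P (ResidueField P) (Ideal.toCotangent _ ⟨_, hmem⟩) = 0 from hw)
    rw [← LinearMap.comp_apply, hl, LinearMap.id_apply, map_zero, Ideal.toCotangent_eq_zero] at h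
    have h' : ∑ b, w b * a b ∈ RingHom.ker (algebraMap P (ResidueField P)) ^ 2 := h
    rwa [show RingHom.ker (algebraMap P (ResidueField P)) = maximalIdeal P from Ideal.mk_ker] at h'
  by_contra hb
  have hu : IsUnit (w b₀) := IsLocalRing.notMem_maximalIdeal.1 hb
  let N : Ideal P := Ideal.span (a '' {b₀}ᶜ)
  have hle : maximalIdeal P ≤ N ⊔ maximalIdeal P • maximalIdeal P := by
    nth_rw 1 [← ha]
    rw [Ideal.span_le]
    rintro _ ⟨b, rfl⟩
    by_cases hbb : b = b₀
    · subst hbb
      have h2 : w b * a b ∈ N ⊔ maximalIdeal P • maximalIdeal P := by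
        rw [show w b * a b = (∑ i, w i * a i) - ∑ i ∈ univ.erase b, w i * a i by
          rw [← Finset.add_sum_erase univ _ (mem_univ b), add_sub_cancel_right]]
        refine sub_mem (Submodule.mem_sup_right ?_) (Submodule.mem_sup_left ?_)
        · rwa [smul_eq_mul, ← pow_two]
        · exact Ideal.sum_mem _ fun i hi => Ideal.mul_mem_left _ _
            (Ideal.subset_span ⟨i, by simpa using (mem_erase.1 hi).1, rfl⟩)
      simpa using (Ideal.unit_mul_mem_iff_mem _ hu).1 h2
    · exact Submodule.mem_sup_left (Ideal.subset_span ⟨b, hbb, rfl⟩)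
  have hN : maximalIdeal P ≤ N :=
    Submodule.le_of_le_smul_of_le_jacobson_bot (IsNoetherian.noetherian _) (maximalIdeal_le_jacobson _) hle
  have hNe : N = maximalIdeal P := le_antisymm
    (Ideal.span_le.2 (by rintro _ ⟨b, -, rfl⟩; rw [← ha]; exact Ideal.subset_span ⟨b, rfl⟩)) hN
  have hfin : (maximalIdeal P).spanFinrank ≤ c - 1 := by
    rw [← hNe]
    refine (Submodule.spanFinrank_span_le_ncard_of_finite (Set.toFinite _)).trans ?_
    refine (Set.ncard_image_le (Set.toFinite _)).trans ?_
    rw [Set.ncard_compl]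
    simp
  have h := Ideal.height_le_spanFinrank (maximalIdeal P) (maximalIdeal.isMaximal P).ne_top
  rw [← IsLocalRing.maximalIdeal_height_eq_ringKrullDim] at hdim
  have h1 : (c : ℕ∞) ≤ ((c - 1 : ℕ) : ℕ∞) :=
    (WithBot.coe_le_coe.1 hdim).trans (h.trans (by exact_mod_cast hfin))
  have := b₀.2
  have := ENat.coe_le_coe.1 h1
  omega

end Local

section Global

theorem one_tmul_smul_eq_zero {P : Type*} [CommRing P] (K : Type*) [CommRing K] [Algebra P K] {M : Type*}
    [AddCommGroup M] [Module P M] (c : P) (h : algebraMap P K c = 0) (m : M) : (1 : K) ⊗ₜ[P] (c • m) = 0 := by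
  rw [← smul_tmul, Algebra.smul_def, h, zero_mul, zero_tmul]

variable {k : Type u} [Field k] {r c : ℕ} {B : Type u} [CommRing B] [Algebra k B]

/-- The Jacobian matrix of a tuple of polynomials, pushed to `B`. -/
noncomputable def jac (φ : MvPolynomial (Fin r) k →ₐ[k] B) (a : Fin c → MvPolynomial (Fin r) k) :
    Fin c → Fin r → B :=
  fun b i => φ (pderiv i (a b))

theorem natCast_le_ringKrullDim_localization {R : Type u} [CommRing R] [IsNoetherianRing R] (Q : Ideal R)
    [Q.IsPrime] {rs : List R} (hreg : RingTheory.Sequence.IsWeaklyRegular R rs) (hQ : ∀ x ∈ rs, x ∈ Q) :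
    (rs.length : WithBot ℕ∞) ≤ ringKrullDim (Localization.AtPrime Q) := by
  have h := hreg.isRegular_of_isLocalization_of_mem (R := R) (S := Localization.AtPrime Q) Q hQ
  have h2 := ringKrullDim_add_length_eq_ringKrullDim_of_isRegular _ h
  rw [List.length_map] at h2
  haveI : Nontrivial (Localization.AtPrime Q ⧸ Ideal.ofList (rs.map (algebraMap R (Localization.AtPrime Q)))) :=
    Ideal.Quotient.nontrivial_iff.2 fun htop => h.top_ne_smul (by rw [htop, Submodule.top_smul])
  rw [← h2]
  exact le_add_of_nonneg_left ringKrullDim_nonneg_of_nontrivial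

variable [PerfectField k] [IsReduced B]

theorem exists_not_mem_mul_eq_zero_of_minimal {q : Ideal B} [q.IsPrime] (hq : q ∈ minimalPrimes B) {y : B}
    (hy : y ∈ q) : ∃ s ∉ q, s * y = 0 := by
  have h : (algebraMap B (Localization.AtPrime q)) y ∈ nilradical (Localization.AtPrime q) := by
    rw [nilradical, Ideal.radical_eq_sInf, Ideal.mem_sInf]
    rintro P ⟨-, hP⟩
    obtain ⟨h₁, h₂⟩ := ((IsLocalization.AtPrime.orderIsoOfPrime (Localization.AtPrime q) q) ⟨P, hP⟩).2
    exact hq.2 ⟨h₁, bot_le⟩ h₂ hy
  rw [nilradical_eq_zero, Submodule.zero_eq_bot, Submodule.mem_bot,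
    IsLocalization.map_eq_zero_iff q.primeCompl] at h
  obtain ⟨⟨s, hs⟩, hsy⟩ := h
  exact ⟨s, hs, hsy⟩

theorem injective_jac (φ : MvPolynomial (Fin r) k →ₐ[k] B) (hφ : Function.Surjective φ)
    (a : Fin c → MvPolynomial (Fin r) k)
    (ha : RingTheory.Sequence.IsWeaklyRegular (MvPolynomial (Fin r) k) (List.ofFn a))
    (hker : RingHom.ker φ.toRingHom = Ideal.span (Set.range a)) :
    Function.Injective (Fintype.linearCombination B (jac φ a)) := by
  classical
  rw [injective_iff_map_eq_zero]
  intro v hv
  funext b₀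
  have hnil : v b₀ ∈ nilradical B := by
    rw [nilradical, Submodule.zero_eq_bot, ← Ideal.sInf_minimalPrimes, Ideal.mem_sInf]
    intro q hq
    haveI := hq.1.1
    let Q : Ideal (MvPolynomial (Fin r) k) := q.comap φ.toRingHom
    haveI : Q.IsPrime := Ideal.IsPrime.comap _
    haveI : Algebra.FormallySmooth k (Localization.AtPrime Q) :=
      Algebra.FormallySmooth.comp k (MvPolynomial (Fin r) k) (Localization.AtPrime Q)
    have haQ : ∀ b, a b ∈ Q := fun b => by
      rw [Ideal.mem_comap, show φ.toRingHom (a b) = 0 from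
        RingHom.mem_ker.1 (hker ▸ Ideal.subset_span ⟨b, rfl⟩)]
      exact zero_mem q
    let a' : Fin c → Localization.AtPrime Q := fun b => algebraMap _ _ (a b)
    have hspan : Ideal.span (Set.range a') = maximalIdeal (Localization.AtPrime Q) := by
      refine le_antisymm (Ideal.span_le.2 ?_) fun x hx => ?_
      · rintro _ ⟨b, rfl⟩
        exact (IsLocalization.AtPrime.to_map_mem_maximal_iff (Localization.AtPrime Q) Q (a b)).2 (haQ b)
      · obtain ⟨p, s, rfl⟩ := IsLocalization.exists_mk'_eq Q.primeCompl x
        rw [IsLocalization.AtPrime.mk'_mem_maximal_iff (Localization.AtPrime Q) Q] at hx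
        obtain ⟨t, ht, hty⟩ := exists_not_mem_mul_eq_zero_of_minimal hq (show φ p ∈ q from hx)
        obtain ⟨t, rfl⟩ := hφ t
        have hmem : t * p ∈ Ideal.span (Set.range a) := by
          rw [← hker, RingHom.mem_ker]
          simpa using hty
        have := Ideal.mem_map_of_mem (algebraMap _ (Localization.AtPrime Q)) hmem
        rw [Ideal.map_span, ← Set.range_comp, map_mul] at this
        rw [IsLocalization.mk'_eq_mul_mk'_one]
        refine Ideal.mul_mem_right _ _ ?_
        exact (Ideal.unit_mul_mem_iff_mem _ (IsLocalization.map_units (Localization.AtPrime Q)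
          (⟨t, ht⟩ : Q.primeCompl))).1 this
    have hdim : (c : WithBot ℕ∞) ≤ ringKrullDim (Localization.AtPrime Q) := by
      simpa using natCast_le_ringKrullDim_localization Q ha (fun x hx => by
        obtain ⟨b, rfl⟩ := List.mem_ofFn.1 hx
        exact haQ b)
    choose w hw using fun b => hφ (v b)
    let w' : Fin c → Localization.AtPrime Q := fun b => algebraMap _ _ (w b)
    suffices hmem : w' b₀ ∈ maximalIdeal (Localization.AtPrime Q) by
      have := (IsLocalization.AtPrime.to_map_mem_maximal_iff (Localization.AtPrime Q) Q (w b₀)).1 hmem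
      rw [Ideal.mem_comap] at this
      rwa [← hw b₀]
    refine residue_indep_of_span_eq (k := k) a' hspan hdim w' ?_ b₀
    have hz : ∀ f, φ f = 0 → algebraMap (MvPolynomial (Fin r) k) (ResidueField (Localization.AtPrime Q)) f = 0 :=
      fun f hf => Ideal.algebraMap_residueField_eq_zero.2 (show φ f ∈ q by rw [hf]; exact zero_mem q)
    have hd : ∀ f : MvPolynomial (Fin r) k, D k (Localization.AtPrime Q) (algebraMap _ _ f) =
        ∑ j, algebraMap _ (Localization.AtPrime Q) (pderiv j f) •
          D k (Localization.AtPrime Q) (algebraMap _ _ (X j : MvPolynomial (Fin r) k)) := fun f => by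
      have h := CAlgH.derivation_eq_sum_pderiv
        ((D k (Localization.AtPrime Q)).compAlgebraMap (MvPolynomial (Fin r) k)) f
      rw [show D k (Localization.AtPrime Q) (algebraMap _ _ f) = _ from h]
      exact Finset.sum_congr rfl fun j _ => (algebraMap_smul (M := Ω[Localization.AtPrime Q⁄k]) (Localization.AtPrime Q) (pderiv j f) _).symm
    have hwa : ∑ b, w' b * a' b = algebraMap _ (Localization.AtPrime Q) (∑ b, w b * a b) := by simp [w', a']
    rw [hwa, hd, tmul_sum]
    refine Finset.sum_eq_zero fun j _ => ?_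
    refine one_tmul_smul_eq_zero (P := Localization.AtPrime Q) (M := Ω[Localization.AtPrime Q⁄k]) _ _ ?_ _
    rw [← IsScalarTower.algebraMap_apply]
    refine hz _ ?_
    rw [map_sum, map_sum]
    have h := congrFun hv j
    simp only [Fintype.linearCombination_apply, Finset.sum_apply, Pi.smul_apply, smul_eq_mul, jac,
      Pi.zero_apply] at h
    rw [← h]
    refine Finset.sum_congr rfl fun b _ => ?_
    have h0 : φ (a b) = 0 := RingHom.mem_ker.1 (hker ▸ Ideal.subset_span ⟨b, rfl⟩ : a b ∈ RingHom.ker φ.toRingHom)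
    rw [pderiv_mul, map_add, map_mul, map_mul, h0, mul_zero, zero_add, hw]
  rw [nilradical_eq_zero] at hnil
  exact hnil

end Global

end Groth.Agent.FittLib
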