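import Groth.Agent.FittLib.Basic
import Groth.Agent.CAlgH3.ExtBaseChange

/-!
# `Ext¹(-, R)` of a module with an injective presentation, and its zeroth Fitting ideal
-/

universe u

open Finset Matrix CategoryTheory

namespace Groth.Agent.FittLib

variable {R : Type u} [CommRing R] {Ω : Type u} [AddCommGroup Ω] [Module R Ω] {r c : ℕ}

/-- The columns of a matrix as vectors. -/
def cols (J : Fin c → Fin r → R) (i : Fin r) : Fin c → R := fun b => J b i

/-- `Ext¹(Ω, R)` as the cokernel of the transposed presentation. -/
theorem exists_ext_one_generators (x : Fin r → Ω) (hx : Submodule.span R (Set.range x) = ⊤)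
    (J : Fin c → Fin r → R) (hrel : rels R x = Submodule.span R (Set.range J))
    (hJ : Function.Injective (Fintype.linearCombination R J)) :
    ∃ y : Fin c → Abelian.Ext.{u} (ModuleCat.of R Ω) (ModuleCat.of R R) 1,
      Submodule.span R (Set.range y) = ⊤ ∧ rels R y = Submodule.span R (Set.range (cols J)) := by
  classical
  let π := Fintype.linearCombination R x
  have hπ : Function.Surjective π := by rw [← LinearMap.range_eq_top, Fintype.range_linearCombination, hx]
  have hex : Function.Exact (Fintype.linearCombination R J) π := by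
    rw [LinearMap.exact_iff, Fintype.range_linearCombination]
    exact hrel
  obtain ⟨p, hp, hker⟩ := CAlgH3.exists_ext_one_presentation R hJ hπ hex
  let pr : Fin c → ((Fin c → R) →ₗ[R] R) := fun b => LinearMap.proj b
  have hspan : Submodule.span R (Set.range pr) = ⊤ := Submodule.eq_top_iff'.2 fun φ => by
    rw [Submodule.mem_span_range_iff_exists_fun]
    refine ⟨fun b => φ (Pi.single b 1), LinearMap.ext fun v => ?_⟩
    conv_rhs => rw [pi_eq_sum_univ' v]
    simp [pr, map_sum, mul_comm]
  have hs : Submodule.span R (Set.range (p ∘ pr)) = ⊤ := span_range_comp_eq_top p hp pr hspan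
  refine ⟨p ∘ pr, hs, le_antisymm (fun v hv => ?_) (Submodule.span_le.2 ?_)⟩
  · have h : ∑ b, v b • pr b ∈ LinearMap.ker p := by
      rw [LinearMap.mem_ker, map_sum]
      simpa [map_smul] using mem_rels.1 hv
    rw [hker] at h
    obtain ⟨w, hw⟩ := h
    rw [Submodule.mem_span_range_iff_exists_fun]
    refine ⟨fun i => w (Pi.single i 1), funext fun b => ?_⟩
    have hb := LinearMap.congr_fun hw (Pi.single b 1)
    simp only [LinearMap.lcomp_apply, Fintype.linearCombination_apply_single, one_smul] at hb
    rw [pi_eq_sum_univ' (J b)] at hb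
    simp [pr, map_sum, Pi.single_apply, map_smul] at hb
    rw [Finset.sum_apply]
    simp [cols, ← hb, mul_comm]
  · rintro _ ⟨i, rfl⟩
    refine mem_rels.2 ?_
    have h : ∑ b, cols J i b • pr b ∈ LinearMap.ker p := by
      rw [hker]
      refine ⟨LinearMap.proj i, ?_⟩
      ext b
      simp [pr, cols, Pi.single_apply, Fintype.linearCombination_apply_single]
    rw [LinearMap.mem_ker, map_sum] at h
    simpa [map_smul] using h

theorem minorsOf_cols (J : Fin c → Fin r → R) :
    minorsOf (Set.range (cols J)) c = minorsOf (Set.range J) c := by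
  refine le_antisymm (Ideal.span_le.2 ?_) (Ideal.span_le.2 ?_)
  · rintro _ ⟨z, e, hz, rfl⟩
    choose g hg using hz
    refine Ideal.subset_span ⟨fun a => J (e a), g, fun a => ⟨_, rfl⟩, ?_⟩
    rw [← det_transpose]
    congr 1
    ext a b
    simp [← hg, cols]
  · rintro _ ⟨z, e, hz, rfl⟩
    choose g hg using hz
    refine Ideal.subset_span ⟨fun a => cols J (e a), g, fun a => ⟨_, rfl⟩, ?_⟩
    rw [← det_transpose]
    congr 1
    ext a b
    simp [← hg, cols]

theorem ideal_eq_ideal_ext_one (x : Fin r → Ω) (hx : Submodule.span R (Set.range x) = ⊤)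
    (J : Fin c → Fin r → R) (hrel : rels R x = Submodule.span R (Set.range J))
    (hJ : Function.Injective (Fintype.linearCombination R J)) (hcr : c ≤ r) :
    Fitt.ideal R Ω (r - c) = Fitt.ideal R (Abelian.Ext.{u} (ModuleCat.of R Ω) (ModuleCat.of R R) 1) 0 := by
  obtain ⟨y, hy, hrely⟩ := exists_ext_one_generators x hx J hrel hJ
  rw [ideal_eq x hx, ideal_eq y hy, hrel, hrely, minorsOf_span, minorsOf_span, Nat.sub_zero,
    minorsOf_cols, show r - (r - c) = c by omega]

end Groth.Agent.FittLib
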