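import Groth.Agent.FittLib.CompletedPresentation
import Groth.Agent.FittLib.ConormalCI
import Groth.Agent.FittLib.ExtDual

/-!
# Formal families of reduced complete intersections over `k[[t]]`
-/

universe u

open Finset MvPolynomial KaehlerDifferential TensorProduct CategoryTheory

namespace Groth.Agent.FittLib

theorem nonempty_equiv_of_rels_eq {R : Type u} [CommRing R] {M M' : Type*} [AddCommGroup M] [Module R M]
    [AddCommGroup M'] [Module R M'] {c : ℕ} (y : Fin c → M) (y' : Fin c → M')
    (hy : Submodule.span R (Set.range y) = ⊤) (hy' : Submodule.span R (Set.range y') = ⊤)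
    (h : rels R y = rels R y') : Nonempty (M ≃ₗ[R] M') := by
  have hs : Function.Surjective (Fintype.linearCombination R y) := by
    rw [← LinearMap.range_eq_top, Fintype.range_linearCombination, hy]
  have hs' : Function.Surjective (Fintype.linearCombination R y') := by
    rw [← LinearMap.range_eq_top, Fintype.range_linearCombination, hy']
  exact ⟨((LinearMap.quotKerEquivOfSurjective _ hs).symm.trans (Submodule.quotEquivOfEq _ _ h)).trans
    (LinearMap.quotKerEquivOfSurjective _ hs')⟩

variable {k : Type u} [Field k] {r c : ℕ}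

local notation "𝕏" => (PowerSeries.X : PowerSeries k)

/-- Restricted power series in `r` variables over `k⟦t⟧`. -/
abbrev Ahat (k : Type u) [Field k] (r : ℕ) : Type u := PolyHat (PowerSeries.X : PowerSeries k) r

/-- Reduction modulo `t`. -/
noncomputable def reduceT (k : Type u) [Field k] (r : ℕ) : Ahat k r →+* MvPolynomial (Fin r) k :=
  (Ideal.Quotient.lift (tI (PowerSeries.X : PowerSeries k) r ^ 1) (MvPolynomial.map (PowerSeries.constantCoeff (R := k)))
    (fun p (hp : p ∈ tI (PowerSeries.X : PowerSeries k) r ^ 1) => by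
      rw [pow_one] at hp
      obtain ⟨s, rfl⟩ := Ideal.mem_span_singleton'.1 hp
      rw [map_mul, MvPolynomial.map_C, PowerSeries.constantCoeff_X, map_zero, mul_zero])).comp
    (AdicCompletion.evalₐ (tI (PowerSeries.X : PowerSeries k) r) 1).toRingHom

theorem reduceT_algebraMap (p : MvPolynomial (Fin r) (PowerSeries k)) :
    reduceT k r (algebraMap (MvPolynomial (Fin r) (PowerSeries k)) (Ahat k r) p) =
      MvPolynomial.map PowerSeries.constantCoeff p := by
  simp only [reduceT, RingHom.comp_apply, AlgHom.toRingHom_eq_coe, RingHom.coe_coe, AlgHom.commutes,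
    Ideal.Quotient.algebraMap_eq, Ideal.Quotient.lift_mk]

theorem reduceT_surjective : Function.Surjective (reduceT k r) := fun f =>
  ⟨algebraMap (MvPolynomial (Fin r) (PowerSeries k)) (Ahat k r) (MvPolynomial.map PowerSeries.C f), by
    rw [reduceT_algebraMap, MvPolynomial.map_map, show (PowerSeries.constantCoeff (R := k)).comp PowerSeries.C =
      RingHom.id k from RingHom.ext fun x => by simp, MvPolynomial.map_id]⟩

theorem reduceT_algebraMap_X : reduceT k r (algebraMap (PowerSeries k) (Ahat k r) 𝕏) = 0 := by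
  rw [← algebraMap_C_eq, reduceT_algebraMap, MvPolynomial.map_C, PowerSeries.constantCoeff_X, map_zero]

theorem ker_reduceT :
    RingHom.ker (reduceT k r) = Ideal.span {algebraMap (PowerSeries k) (Ahat k r) 𝕏 ^ (0 + 1)} := by
  refine le_antisymm (fun x hx => ?_) ?_
  · obtain ⟨p, hp⟩ := exists_sub_of_mem 𝕏 r (0 + 1) x
    have h0 : reduceT k r (x - algebraMap (MvPolynomial (Fin r) (PowerSeries k)) (Ahat k r) p) = 0 := by
      obtain ⟨s, hs⟩ := Ideal.mem_span_singleton'.1 hp
      rw [← hs, map_mul, map_pow, reduceT_algebraMap_X, pow_succ, mul_zero, mul_zero]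
    rw [map_sub, RingHom.mem_ker.1 hx, zero_sub, neg_eq_zero, reduceT_algebraMap] at h0
    have hm : p ∈ Ideal.map (C : PowerSeries k →+* MvPolynomial (Fin r) (PowerSeries k)) (Ideal.span {𝕏}) :=
      mem_map_C_iff.2 fun m => Ideal.mem_span_singleton.2 <| PowerSeries.X_dvd_iff.2 <| by
        rw [← coeff_map, h0, coeff_zero]
    rw [Ideal.map_span, Set.image_singleton] at hm
    obtain ⟨s, hs⟩ := Ideal.mem_span_singleton'.1 hm
    rw [← sub_add_cancel x (algebraMap (MvPolynomial (Fin r) (PowerSeries k)) (Ahat k r) p)]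
    refine add_mem hp ?_
    rw [← hs, map_mul, algebraMap_C_eq, zero_add, pow_one]
    exact Ideal.mul_mem_left _ _ (Ideal.mem_span_singleton_self _)
  · rw [Ideal.span_le, Set.singleton_subset_iff, SetLike.mem_coe, RingHom.mem_ker, map_pow, reduceT_algebraMap_X,
      zero_pow (by omega)]

variable {B : Type u} [CommRing B] [Algebra (PowerSeries k) B]

set_option maxHeartbeats 1000000 in
/-- The closed fibre as a quotient of `k[T]` by a regular sequence, with its Jacobian. -/
theorem injective_jacobian_mod [IsAlgClosed k] (a : Fin c → Ahat k r)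
    (ψ : Ahat k r →ₐ[PowerSeries k] B) (hψ : Function.Surjective ψ)
    (hker : RingHom.ker ψ.toRingHom = Ideal.span (Set.range a))
    (hreg : RingTheory.Sequence.IsRegular
      (Ahat k r ⧸ Ideal.span {algebraMap (PowerSeries k) (Ahat k r) 𝕏 ^ (0 + 1)})
      ((List.ofFn a).map (Ideal.Quotient.mk (Ideal.span {algebraMap (PowerSeries k) (Ahat k r) 𝕏 ^ (0 + 1)}))))
    [IsReduced (B ⧸ Ideal.span {algebraMap (PowerSeries k) B 𝕏})]
    (J : Fin c → Fin r → B)
    (hJ : ∀ (N : ℕ) (b : Fin c) (i : Fin r) (p : MvPolynomial (Fin r) (PowerSeries k)),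
      a b - algebraMap (MvPolynomial (Fin r) (PowerSeries k)) (Ahat k r) p ∈
        Ideal.span {algebraMap (PowerSeries k) (Ahat k r) 𝕏 ^ N} →
      J b i - ψ (algebraMap (MvPolynomial (Fin r) (PowerSeries k)) (Ahat k r) (pderiv i p)) ∈
        Ideal.span {algebraMap (PowerSeries k) B 𝕏 ^ N}) :
    Function.Injective (Fintype.linearCombination (B ⧸ Ideal.span {algebraMap (PowerSeries k) B 𝕏 ^ 1})
      fun b i => Ideal.Quotient.mk (Ideal.span {algebraMap (PowerSeries k) B 𝕏 ^ 1}) (J b i)) ∧ c ≤ r := by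
  classical
  haveI : IsReduced (B ⧸ Ideal.span {algebraMap (PowerSeries k) B 𝕏 ^ 1}) := by rw [pow_one]; infer_instance
  letI : Algebra k (B ⧸ Ideal.span {algebraMap (PowerSeries k) B 𝕏 ^ 1}) :=
    ((algebraMap (PowerSeries k) (B ⧸ Ideal.span {algebraMap (PowerSeries k) B 𝕏 ^ 1})).comp
      PowerSeries.C).toAlgebra
  let π := piLevel ψ 1
  let φ : MvPolynomial (Fin r) k →ₐ[k] B ⧸ Ideal.span {algebraMap (PowerSeries k) B 𝕏 ^ 1} :=
    aeval fun i => π (X i)
  have hX : algebraMap (PowerSeries k) (B ⧸ Ideal.span {algebraMap (PowerSeries k) B 𝕏 ^ 1}) 𝕏 = 0 := by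
    exact Ideal.Quotient.eq_zero_iff_mem.2 (Ideal.mem_span_singleton.2 (by rw [pow_one]))
  have hφπ : ∀ p, φ (MvPolynomial.map PowerSeries.constantCoeff p) = π p := by
    intro p
    induction p using MvPolynomial.induction_on with
    | C s =>
      rw [MvPolynomial.map_C, aeval_C, ← MvPolynomial.algebraMap_eq, AlgHom.commutes]
      show algebraMap (PowerSeries k) _ (PowerSeries.C (PowerSeries.constantCoeff s)) = _
      obtain ⟨d, hd⟩ := PowerSeries.X_dvd_iff.2 (show PowerSeries.constantCoeff
        (s - PowerSeries.C (PowerSeries.constantCoeff s)) = 0 by simp)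
      conv_rhs => rw [← add_sub_cancel (PowerSeries.C (PowerSeries.constantCoeff s)) s, hd, map_add, map_mul, hX,
        zero_mul, add_zero]
    | add p q hp hq => simp only [map_add, hp, hq]
    | mul_X p i hp => rw [map_mul, map_mul, map_mul, hp, MvPolynomial.map_X, aeval_X]
  have hφ : Function.Surjective φ := fun y => by
    obtain ⟨p, rfl⟩ := piLevel_surjective ψ hψ 1 y
    exact ⟨_, hφπ p⟩
  choose l hl using fun b : Fin c => exists_sub_of_mem 𝕏 r 1 (a b)
  let a₀ : Fin c → MvPolynomial (Fin r) k := fun b => MvPolynomial.map PowerSeries.constantCoeff (l b)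
  have hker₀ : RingHom.ker φ.toRingHom = Ideal.span (Set.range a₀) := by
    have hk := ker_piLevel ψ a hker hψ 1 l hl
    have hsec : ∀ f : MvPolynomial (Fin r) k,
        MvPolynomial.map PowerSeries.constantCoeff (MvPolynomial.map (PowerSeries.C (R := k)) f) = f := fun f => by
      rw [MvPolynomial.map_map, show (PowerSeries.constantCoeff (R := k)).comp PowerSeries.C = RingHom.id k from
        RingHom.ext fun x => by simp, MvPolynomial.map_id]
    refine le_antisymm (fun f hf => ?_) (Ideal.span_le.2 ?_)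
    · have hm : MvPolynomial.map (PowerSeries.C (R := k)) f ∈ RingHom.ker π.toRingHom := by
        rw [RingHom.mem_ker]
        show π _ = 0
        rw [← hφπ, hsec]
        exact RingHom.mem_ker.1 hf
      rw [hk] at hm
      have h2 := Ideal.mem_map_of_mem (MvPolynomial.map (PowerSeries.constantCoeff (R := k))) hm
      rw [hsec, Ideal.map_span, ← Set.range_comp] at h2
      refine Ideal.span_le.2 ?_ h2
      rintro _ ⟨_ | b, rfl⟩
      · show MvPolynomial.map PowerSeries.constantCoeff (C 𝕏 ^ 1) ∈ _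
        rw [pow_one, MvPolynomial.map_C, PowerSeries.constantCoeff_X, map_zero]
        exact zero_mem _
      · exact Ideal.subset_span ⟨b, rfl⟩
    · rintro _ ⟨b, rfl⟩
      refine RingHom.mem_ker.2 ?_
      show φ (a₀ b) = 0
      rw [hφπ]
      exact RingHom.mem_ker.1 (hk ▸ Ideal.subset_span ⟨some b, rfl⟩ : l b ∈ RingHom.ker π.toRingHom)
  have hreg₀ : RingTheory.Sequence.IsRegular (MvPolynomial (Fin r) k) (List.ofFn a₀) := by
    let e : (Ahat k r ⧸ Ideal.span {algebraMap (PowerSeries k) (Ahat k r) 𝕏 ^ (0 + 1)}) ≃+* MvPolynomial (Fin r) k :=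
      (Ideal.quotEquivOfEq ker_reduceT.symm).trans (RingHom.quotientKerEquivOfSurjective reduceT_surjective)
    have he : ∀ x, e (Ideal.Quotient.mk _ x) = reduceT k r x := fun x => rfl
    refine (AddEquiv.isRegular_congr (e := e.toAddEquiv) ?_).1 hreg
    rw [List.map_ofFn, List.forall₂_iff_get]
    refine ⟨by simp, fun i h₁ h₂ x => ?_⟩
    simp only [List.get_eq_getElem, List.getElem_ofFn, Function.comp_apply, smul_eq_mul]
    show e (_ * x) = _ * e x
    rw [map_mul, he]
    congr 1
    have h := hl ⟨i, by simpa using h₁⟩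
    have h' := RingHom.mem_ker.1 (ker_reduceT.ge h)
    rwa [map_sub, reduceT_algebraMap, sub_eq_zero] at h'
  have hjac : (fun b i => Ideal.Quotient.mk (Ideal.span {algebraMap (PowerSeries k) B 𝕏 ^ 1}) (J b i)) = jac φ a₀ := by
    funext b i
    rw [jac, pderiv_map, hφπ]
    exact (Ideal.Quotient.mk_eq_mk_iff_sub_mem _ _).2 (hJ 1 b i _ (hl b))
  have hinj := injective_jac φ hφ a₀ hreg₀.toIsWeaklyRegular hker₀
  refine ⟨hjac ▸ hinj, ?_⟩
  rcases subsingleton_or_nontrivial (B ⧸ Ideal.span {algebraMap (PowerSeries k) B 𝕏 ^ 1}) with h | h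
  · exfalso
    refine hreg₀.top_ne_smul ?_
    rw [show Ideal.ofList (List.ofFn a₀) = ⊤ from ?_, Submodule.top_smul]
    rw [Ideal.ofList, show {x | x ∈ List.ofFn a₀} = Set.range a₀ by ext; simp [List.mem_ofFn], ← hker₀]
    exact (Ideal.eq_top_iff_one _).2 (RingHom.mem_ker.2 (Subsingleton.elim _ _))
  · simpa using card_le_of_injective _ (Fintype.linearCombination _ (jac φ a₀)) hinj

theorem injective_mod_pow {B : Type u} [CommRing B] {r c : ℕ} {τ : B} (hτ : IsSMulRegular B τ)
    (J : Fin c → Fin r → B)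
    (h1 : Function.Injective (Fintype.linearCombination (B ⧸ Ideal.span {τ ^ 1})
      fun b i => Ideal.Quotient.mk (Ideal.span {τ ^ 1}) (J b i))) :
    ∀ N : ℕ, Function.Injective (Fintype.linearCombination (B ⧸ Ideal.span {τ ^ N})
      fun b i => Ideal.Quotient.mk (Ideal.span {τ ^ N}) (J b i)) := by
  intro N
  rw [injective_iff_map_eq_zero]
  suffices h : ∀ v : Fin c → B, (∀ i, ∑ b, v b * J b i ∈ Ideal.span {τ ^ N}) → ∀ b, v b ∈ Ideal.span {τ ^ N} by
    intro v hv
    choose w hw using fun b => Ideal.Quotient.mk_surjective (v b)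
    funext b
    rw [← hw b]
    refine Ideal.Quotient.eq_zero_iff_mem.2 (h w (fun i => Ideal.Quotient.eq_zero_iff_mem.1 ?_) b)
    have := congrFun hv i
    simpa [Fintype.linearCombination_apply, Finset.sum_apply, map_sum, ← hw] using this
  induction N with
  | zero => intro v _ b; simp
  | succ N ih =>
    intro v hv b
    have hv1 : ∀ b, v b ∈ Ideal.span {τ ^ 1} := by
      have := (injective_iff_map_eq_zero _).1 h1 (fun b => Ideal.Quotient.mk _ (v b)) (funext fun i => ?_)
      · exact fun b => Ideal.Quotient.eq_zero_iff_mem.1 (congrFun this b)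
      · simp only [Fintype.linearCombination_apply, Finset.sum_apply, Pi.smul_apply, smul_eq_mul, ← map_mul,
          ← map_sum, Pi.zero_apply]
        exact Ideal.Quotient.eq_zero_iff_mem.2
          (Ideal.span_singleton_le_span_singleton.2 (pow_dvd_pow τ (by omega)) (hv i))
    choose w hw using fun b => Ideal.mem_span_singleton'.1 (hv1 b)
    have hw' : ∀ i, ∑ b, w b * J b i ∈ Ideal.span {τ ^ N} := fun i => by
      obtain ⟨d, hd⟩ := Ideal.mem_span_singleton'.1 (hv i)
      refine Ideal.mem_span_singleton'.2 ⟨d, hτ ?_⟩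
      show τ * (d * τ ^ N) = τ * ∑ b, w b * J b i
      rw [Finset.mul_sum, show τ * (d * τ ^ N) = d * τ ^ (N + 1) by ring, hd]
      exact Finset.sum_congr rfl fun b _ => by rw [← hw b]; ring
    obtain ⟨d, hd⟩ := Ideal.mem_span_singleton'.1 (ih w hw' b)
    exact Ideal.mem_span_singleton'.2 ⟨d, by rw [← hw b, ← hd]; ring⟩

theorem injective_of_mod_pow {B : Type u} [CommRing B] {r c : ℕ} {τ : B} [IsHausdorff (Ideal.span {τ}) B]
    (J : Fin c → Fin r → B)
    (h : ∀ N : ℕ, Function.Injective (Fintype.linearCombination (B ⧸ Ideal.span {τ ^ N})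
      fun b i => Ideal.Quotient.mk (Ideal.span {τ ^ N}) (J b i))) :
    Function.Injective (Fintype.linearCombination B J) := by
  rw [injective_iff_map_eq_zero]
  intro v hv
  funext b
  refine IsHausdorff.haus (I := Ideal.span {τ}) inferInstance (v b) fun N => ?_
  rw [SModEq.zero, smul_eq_mul, Ideal.mul_top, Ideal.span_singleton_pow, ← Ideal.Quotient.eq_zero_iff_mem]
  refine congrFun ((injective_iff_map_eq_zero _).1 (h N) (fun b => Ideal.Quotient.mk _ (v b)) (funext fun i => ?_)) b
  have := congrFun hv i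
  simp only [Fintype.linearCombination_apply, Finset.sum_apply, Pi.smul_apply, smul_eq_mul, ← map_mul, ← map_sum,
    Pi.zero_apply] at this ⊢
  rw [this, map_zero]

/-- All data of the presentation of a formal family. -/
theorem exists_formalFamily_data [IsAlgClosed k] (a : Fin c → Ahat k r) [IsNoetherianRing B]
    [IsAdicComplete (Ideal.span {algebraMap (PowerSeries k) B 𝕏}) B] [Module.Flat (PowerSeries k) B]
    (ψ : Ahat k r →ₐ[PowerSeries k] B) (hψ : Function.Surjective ψ)
    (hker : RingHom.ker ψ.toRingHom = Ideal.span (Set.range a))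
    (hreg : RingTheory.Sequence.IsRegular
      (Ahat k r ⧸ Ideal.span {algebraMap (PowerSeries k) (Ahat k r) 𝕏 ^ (0 + 1)})
      ((List.ofFn a).map (Ideal.Quotient.mk (Ideal.span {algebraMap (PowerSeries k) (Ahat k r) 𝕏 ^ (0 + 1)}))))
    [IsReduced (B ⧸ Ideal.span {algebraMap (PowerSeries k) B 𝕏})] :
    ∃ J : Fin c → Fin r → B, c ≤ r ∧ Submodule.span B (Set.range (xHat ψ)) = ⊤ ∧
      rels B (xHat ψ) = Submodule.span B (Set.range J) ∧
      Function.Injective (Fintype.linearCombination B J) ∧
      ∀ N : ℕ, rels (B ⧸ Ideal.span {algebraMap (PowerSeries k) B 𝕏 ^ N}) (dGen (piLevel ψ N)) =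
          Submodule.span _ (Set.range fun b i =>
            Ideal.Quotient.mk (Ideal.span {algebraMap (PowerSeries k) B 𝕏 ^ N}) (J b i)) ∧
        Function.Injective (Fintype.linearCombination (B ⧸ Ideal.span {algebraMap (PowerSeries k) B 𝕏 ^ N})
          fun b i => Ideal.Quotient.mk (Ideal.span {algebraMap (PowerSeries k) B 𝕏 ^ N}) (J b i)) := by
  obtain ⟨J, hJ⟩ := exists_jacobian ψ a
  obtain ⟨h1, hcr⟩ := injective_jacobian_mod a ψ hψ hker hreg J hJ
  have hτ : IsSMulRegular B (algebraMap (PowerSeries k) B 𝕏) := fun x y hxy => by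
    refine Module.Flat.isSMulRegular_of_nonZeroDivisors (M := B)
      (mem_nonZeroDivisors_of_ne_zero (show (PowerSeries.X : PowerSeries k) ≠ 0 from PowerSeries.X_ne_zero)) ?_
    simpa [Algebra.smul_def] using hxy
  have hN := injective_mod_pow hτ J h1
  obtain ⟨hx, hrel⟩ := completed_presentation ψ hker hψ J hJ
  exact ⟨J, hcr, hx, hrel, injective_of_mod_pow J hN, fun N => ⟨rels_dGen_piLevel ψ hker hψ J hJ N, hN N⟩⟩

end Groth.Agent.FittLib
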