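import Groth.Agent.FittLib.Basic
import Groth.Agent.CAlgH.RegularFlatParam
import Mathlib

/-!
# Relations among the differentials of the generators of a quotient of a polynomial ring
-/

universe u

open Finset MvPolynomial KaehlerDifferential TensorProduct

namespace Groth.Agent.FittLib

variable {A B : Type u} [CommRing A] [CommRing B] [Algebra A B] {r : ℕ}

/-- The differentials of the generators. -/
noncomputable def dGen (φ : MvPolynomial (Fin r) A →ₐ[A] B) (i : Fin r) : Ω[B⁄A] := D A B (φ (X i))

theorem span_dGen (φ : MvPolynomial (Fin r) A →ₐ[A] B) (hφ : Function.Surjective φ) :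
    Submodule.span B (Set.range (dGen φ)) = ⊤ := by
  letI : Algebra (MvPolynomial (Fin r) A) B := φ.toRingHom.toAlgebra
  haveI : IsScalarTower A (MvPolynomial (Fin r) A) B := .of_algebraMap_eq fun x => (φ.commutes x).symm
  rw [← top_le_iff, ← KaehlerDifferential.span_range_derivation, Submodule.span_le]
  rintro _ ⟨y, rfl⟩
  obtain ⟨p, rfl⟩ := hφ y
  have h := CAlgH.derivation_eq_sum_pderiv ((D A B).compAlgebraMap (MvPolynomial (Fin r) A)) p
  rw [show D A B (φ p) = _ from h]
  exact Submodule.sum_mem _ fun j _ =>
    Submodule.smul_mem _ (φ (pderiv j p)) (Submodule.subset_span ⟨j, rfl⟩)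

theorem rels_dGen (φ : MvPolynomial (Fin r) A →ₐ[A] B) (hφ : Function.Surjective φ) {ι : Type*}
    (a : ι → MvPolynomial (Fin r) A) (hker : RingHom.ker φ.toRingHom = Ideal.span (Set.range a)) :
    rels B (dGen φ) = Submodule.span B (Set.range fun b i => φ (pderiv i (a b))) := by
  classical
  letI : Algebra (MvPolynomial (Fin r) A) B := φ.toRingHom.toAlgebra
  haveI : IsScalarTower A (MvPolynomial (Fin r) A) B := .of_algebraMap_eq fun x => (φ.commutes x).symm
  let W : Submodule B (Fin r → B) := Submodule.span B (Set.range fun b i => φ (pderiv i (a b)))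
  refine le_antisymm (fun v hv => ?_) (Submodule.span_le.2 ?_)
  swap
  · rintro _ ⟨b, rfl⟩
    refine mem_rels.2 ?_
    have h := CAlgH.derivation_eq_sum_pderiv ((D A B).compAlgebraMap (MvPolynomial (Fin r) A)) (a b)
    have h0 : φ (a b) = 0 := RingHom.mem_ker.1 (hker ▸ Ideal.subset_span ⟨b, rfl⟩ : a b ∈ RingHom.ker φ.toRingHom)
    rw [show ((D A B).compAlgebraMap (MvPolynomial (Fin r) A)) (a b) = D A B (φ (a b)) from rfl, h0, map_zero] at h
    exact h.symm
  · let Dh : Derivation A (MvPolynomial (Fin r) A) ((Fin r → B) ⧸ W) :=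
      mkDerivation A fun i => W.mkQ (Pi.single i 1)
    have hDh : ∀ f, Dh f = W.mkQ fun i => φ (pderiv i f) := fun f => by
      rw [CAlgH.derivation_eq_sum_pderiv Dh f, pi_eq_sum_univ' fun i => φ (pderiv i f), map_sum]
      refine Finset.sum_congr rfl fun j _ => ?_
      rw [mkDerivation_X, map_smul]
      exact (algebraMap_smul B (pderiv j f) _).symm
    have hkill : ∀ f, φ f = 0 → Dh f = 0 := fun f hf => by
      have hm : f ∈ Ideal.span (Set.range a) := hker ▸ (RingHom.mem_ker.2 hf : f ∈ RingHom.ker φ.toRingHom)
      clear hf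
      induction hm using Submodule.span_induction with
      | mem f hf =>
        obtain ⟨b, rfl⟩ := hf
        rw [hDh]
        exact (Submodule.Quotient.mk_eq_zero W).2 (Submodule.subset_span ⟨b, rfl⟩)
      | zero => exact map_zero _
      | add p q _ _ hp hq => rw [map_add, hp, hq, add_zero]
      | smul p q hq hq' =>
        rw [smul_eq_mul, Derivation.leibniz, hq', smul_zero, zero_add]
        have : φ q = 0 := RingHom.mem_ker.1 (hker.ge hq)
        rw [← algebraMap_smul B q, show algebraMap (MvPolynomial (Fin r) A) B q = φ q from rfl, this, zero_smul]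
    let s := Function.surjInv hφ
    have hs : ∀ y, φ (s y) = y := Function.surjInv_eq hφ
    have hwd : ∀ f, Dh (s (φ f)) = Dh f := fun f => by
      rw [← sub_eq_zero, ← map_sub]
      exact hkill _ (by rw [map_sub, hs, sub_self])
    let L : B →ₗ[A] (Fin r → B) ⧸ W :=
      { toFun := fun y => Dh (s y)
        map_add' := fun p q => by
          obtain ⟨p, rfl⟩ := hφ p
          obtain ⟨q, rfl⟩ := hφ q
          rw [← map_add, hwd, hwd, hwd, map_add]
        map_smul' := fun c p => by
          obtain ⟨p, rfl⟩ := hφ p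
          rw [← map_smul, hwd, hwd, Derivation.map_smul]
          rfl }
    let D' : Derivation A B ((Fin r → B) ⧸ W) := Derivation.mk' L fun p q => by
      obtain ⟨p, rfl⟩ := hφ p
      obtain ⟨q, rfl⟩ := hφ q
      show Dh (s (φ p * φ q)) = φ p • Dh (s (φ q)) + φ q • Dh (s (φ p))
      rw [← map_mul, hwd, hwd, hwd, Derivation.leibniz, ← algebraMap_smul B p, ← algebraMap_smul B q]
      rfl
    have hl : ∀ i, D'.liftKaehlerDifferential (dGen φ i) = W.mkQ (Pi.single i 1) := fun i => by
      rw [dGen, Derivation.liftKaehlerDifferential_comp_D]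
      exact (hwd _).trans (mkDerivation_X A _ i)
    have h0 := congrArg D'.liftKaehlerDifferential (mem_rels.1 hv)
    rw [map_sum, map_zero] at h0
    simp only [map_smul, hl] at h0
    have hmem : W.mkQ v = 0 := by
      rw [pi_eq_sum_univ' v, map_sum]
      simpa [map_smul] using h0
    exact (Submodule.Quotient.mk_eq_zero W).1 hmem

end Groth.Agent.FittLib
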