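import Mathlib

/-!
# Ideals of minors of sets of vectors; relation modules

`minorsOf S q` is the ideal generated by the `q`-minors whose columns lie in `S`; `rels x` is the
module of linear relations of a tuple. The key result `minorsOf_rels_le` is independence of the
generating tuple (Fitting's lemma).
-/

universe u v w

open Finset Matrix

namespace Groth.Agent.FittLib

variable {R : Type u} [CommRing R] {ι : Type*}

/-- The ideal generated by the `q`-minors with columns in `S`. -/
def minorsOf (S : Set (ι → R)) (q : ℕ) : Ideal R :=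
  Ideal.span {d | ∃ (z : Fin q → ι → R) (e : Fin q → ι), (∀ j, z j ∈ S) ∧ d = (Matrix.of fun a b => z b (e a)).det}

theorem det_mem_of_card {S : Set (ι → R)} {q : ℕ} {κ : Type*} [Fintype κ] [DecidableEq κ]
    (z : κ → ι → R) (hz : ∀ j, z j ∈ S) (e : κ → ι) (hκ : Fintype.card κ = q) :
    (Matrix.of fun a b => z b (e a)).det ∈ minorsOf S q := by
  let g := (Fintype.equivFinOfCardEq hκ).symm
  rw [← det_submatrix_equiv_self g]
  exact Ideal.subset_span ⟨z ∘ g, e ∘ g, fun j => hz _, rfl⟩

theorem det_mem {S : Set (ι → R)} {q : ℕ} : ∀ {m : ℕ} (z : Fin m → ι → R) (e : Fin m → ι) (T : Finset (Fin m)),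
    (∀ b ∈ T, z b ∈ S) → q ≤ T.card → (Matrix.of fun a b => z b (e a)).det ∈ minorsOf S q := by
  intro m
  induction m with
  | zero =>
    intro z e T hT hq
    obtain rfl : T = ∅ := Finset.eq_empty_of_forall_notMem fun j => j.elim0
    exact det_mem_of_card z (fun j => j.elim0) e (by simp at hq ⊢; omega)
  | succ m ih =>
    intro z e T hT hq
    by_cases hqm : q = m + 1
    · have hT' : T = univ := Finset.eq_univ_of_card T (le_antisymm (by simpa using card_le_univ T) (by simp; omega))
      exact det_mem_of_card z (fun j => hT j (hT' ▸ mem_univ j)) e (by simp [hqm])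
    obtain ⟨b, T', hb, hcard⟩ : ∃ (b : Fin (m + 1)) (T' : Finset (Fin m)),
        (∀ i ∈ T', b.succAbove i ∈ T) ∧ q ≤ T'.card := by
      by_cases hTu : T = univ
      · refine ⟨0, univ, fun i _ => hTu ▸ mem_univ _, ?_⟩
        have : T.card ≤ m + 1 := by simpa using card_le_univ T
        subst hTu
        simp at hq ⊢
        omega
      · obtain ⟨b, hb⟩ : ∃ b, b ∉ T := by simpa [eq_univ_iff_forall] using hTu
        refine ⟨b, univ.filter (fun i => b.succAbove i ∈ T), fun i hi => (mem_filter.1 hi).2, hq.trans ?_⟩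
        calc T.card ≤ ((univ.filter (fun i => b.succAbove i ∈ T)).image b.succAbove).card := by
              refine card_le_card fun c hc => ?_
              obtain ⟨i, rfl⟩ := Fin.exists_succAbove_eq (show c ≠ b from fun h => hb (h ▸ hc))
              exact mem_image_of_mem _ (mem_filter.2 ⟨mem_univ _, hc⟩)
          _ ≤ _ := card_image_le
    rw [det_succ_column _ b]
    refine Ideal.sum_mem _ fun a _ => Ideal.mul_mem_left _ _ ?_
    exact ih (z ∘ b.succAbove) (e ∘ a.succAbove) T' (fun i hi => hT _ (hb i hi)) hcard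

theorem minorsOf_mono {S S' : Set (ι → R)} (h : S ⊆ S') (q : ℕ) : minorsOf S q ≤ minorsOf S' q := by
  refine Ideal.span_le.2 ?_
  rintro _ ⟨z, e, hz, rfl⟩
  exact Ideal.subset_span ⟨z, e, fun j => h (hz j), rfl⟩

theorem minorsOf_anti (S : Set (ι → R)) {q q' : ℕ} (h : q ≤ q') : minorsOf S q' ≤ minorsOf S q := by
  refine Ideal.span_le.2 ?_
  rintro _ ⟨z, e, hz, rfl⟩
  exact det_mem z e univ (fun j _ => hz j) (by simpa using h)

theorem minorsOf_zero (S : Set (ι → R)) : minorsOf S 0 = ⊤ :=
  (Ideal.eq_top_iff_one _).2 (Ideal.subset_span ⟨Fin.elim0, Fin.elim0, fun j => j.elim0, by simp⟩)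

theorem det_eq_zero_of_not_injective {κ : Type*} [Fintype κ] [DecidableEq κ] (z : κ → ι → R) (e : κ → ι)
    (h : ¬ Function.Injective e) : (Matrix.of fun a b => z b (e a)).det = 0 := by
  simp only [Function.Injective, not_forall] at h
  obtain ⟨a, a', he, hne⟩ := h
  exact det_zero_of_row_eq hne (by funext b; simp [he])

theorem minorsOf_eq_bot_of_card_lt [Fintype ι] (S : Set (ι → R)) {q : ℕ} (h : Fintype.card ι < q) :
    minorsOf S q = ⊥ := by
  refine le_bot_iff.1 (Ideal.span_le.2 ?_)
  rintro _ ⟨z, e, hz, rfl⟩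
  have : ¬ Function.Injective e := fun he => by
    have := Fintype.card_le_of_injective e he
    simp at this
    omega
  simp [det_eq_zero_of_not_injective z e this]

theorem det_mem_of_mem_span {S : Set (ι → R)} {q : ℕ} (z : Fin q → ι → R) (e : Fin q → ι) (T : Finset (Fin q)) :
    (∀ b ∉ T, z b ∈ S) → (∀ b, z b ∈ Submodule.span R S) →
      (Matrix.of fun a b => z b (e a)).det ∈ minorsOf S q := by
  induction T using Finset.induction_on generalizing z with
  | empty => exact fun h _ => det_mem_of_card z (fun j => h j (by simp)) e (by simp)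
  | @insert b T hb ih =>
    intro h1 h2
    have key : ∀ v ∈ Submodule.span R S,
        (updateCol (Matrix.of fun a c => z c (e a)) b (v ∘ e)).det ∈ minorsOf S q := by
      intro v hv
      induction hv using Submodule.span_induction with
      | mem v hv =>
        have hupd : updateCol (Matrix.of fun a c => z c (e a)) b (v ∘ e) =
            Matrix.of fun a c => Function.update z b v c (e a) := by
          ext a c
          by_cases hc : c = b
          · subst hc; simp
          · simp [hc]
        rw [hupd]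
        refine ih _ (fun c hc => ?_) fun c => ?_
        · by_cases hcb : c = b
          · subst hcb; simpa using hv
          · simpa [hcb] using h1 c (by simp [hcb, hc])
        · by_cases hcb : c = b
          · subst hcb; simpa using Submodule.subset_span hv
          · simpa [hcb] using h2 c
      | zero =>
        rw [det_eq_zero_of_column_eq_zero b (fun a => by simp)]
        exact zero_mem _
      | add x y _ _ hx hy =>
        rw [show ((x + y) ∘ e) = x ∘ e + y ∘ e from rfl, det_updateCol_add]
        exact add_mem hx hy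
      | smul c x _ hx =>
        rw [show ((c • x) ∘ e) = c • (x ∘ e) from rfl, det_updateCol_smul]
        exact Ideal.mul_mem_left _ _ hx
    convert key (z b) (h2 b) using 2
    ext a c
    by_cases hc : c = b
    · subst hc; simp
    · simp [hc]

theorem minorsOf_span (S : Set (ι → R)) (q : ℕ) : minorsOf (Submodule.span R S : Set (ι → R)) q = minorsOf S q := by
  refine le_antisymm (Ideal.span_le.2 ?_) (minorsOf_mono Submodule.subset_span q)
  rintro _ ⟨z, e, hz, rfl⟩
  exact det_mem_of_mem_span z e univ (fun b hb => absurd (mem_univ b) hb) hz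

theorem map_minorsOf {R' : Type*} [CommRing R'] (f : R →+* R') (S : Set (ι → R)) (q : ℕ) :
    (minorsOf S q).map f = minorsOf ((fun v => f ∘ v) '' S) q := by
  rw [minorsOf, Ideal.map_span]
  refine congrArg Ideal.span (Set.ext fun d => ?_)
  constructor
  · rintro ⟨_, ⟨z, e, hz, rfl⟩, rfl⟩
    exact ⟨fun j => f ∘ z j, e, fun j => ⟨z j, hz j, rfl⟩, by rw [RingHom.map_det]; rfl⟩
  · rintro ⟨z', e, hz, rfl⟩
    choose z hz hzz using hz
    refine ⟨_, ⟨z, e, hz, rfl⟩, ?_⟩
    rw [RingHom.map_det]
    congr 1
    ext a b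
    simp [← hzz]

theorem minorsOf_fg [Finite ι] {S : Set (ι → R)} (hS : S.Finite) (q : ℕ) : (minorsOf S q).FG := by
  refine Submodule.fg_def.2 ⟨_, Set.Finite.subset
    (((Set.Finite.pi' fun _ : Fin q => hS).prod (Set.finite_univ (α := Fin q → ι))).image
      fun p => (Matrix.of fun a b => p.1 b (p.2 a)).det) ?_, rfl⟩
  rintro _ ⟨z, e, hz, rfl⟩
  exact ⟨(z, e), ⟨hz, trivial⟩, rfl⟩

theorem minorsOf_comp_le {ι' : Type*} (g : ι' → ι) (S : Set (ι → R)) (q : ℕ) :
    minorsOf ((fun v => v ∘ g) '' S) q ≤ minorsOf S q := by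
  refine Ideal.span_le.2 ?_
  rintro _ ⟨z', e, hz, rfl⟩
  choose z hz hzz using hz
  exact Ideal.subset_span ⟨z, g ∘ e, hz, by congr 1; ext a b; simp [← hzz]⟩

/-- Extension of a vector by zero to the new coordinate. -/
def extNone (v : ι → R) : Option ι → R := fun o => o.elim 0 v

theorem minorsOf_extNone_le (S : Set (ι → R)) (q : ℕ) : minorsOf (extNone '' S) q ≤ minorsOf S q := by
  refine Ideal.span_le.2 ?_
  rintro _ ⟨z', e', hz, rfl⟩
  choose z hz hzz using hz
  by_cases h : ∃ a, e' a = none
  · obtain ⟨a, ha⟩ := h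
    rw [det_eq_zero_of_row_eq_zero a (fun b => by simp [← hzz, ha, extNone])]
    exact zero_mem _
  · simp only [not_exists, ← ne_eq, Option.ne_none_iff_exists'] at h
    choose e he using h
    exact Ideal.subset_span ⟨z, e, hz, by congr 1; ext a b; simp [← hzz, he, extNone]⟩

theorem det_rankOne_mem {S : Set (ι → R)} {q : ℕ} (w : Fin (q + 1) → ι → R) (hw : ∀ b, w b ∈ S)
    (ρ : ι → R) (t : Fin (q + 1) → R) (e : Fin (q + 1) → ι) :
    (Matrix.of fun a b => w b (e a) + t b * ρ (e a)).det ∈ minorsOf S q := by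
  let A : Matrix (Fin (q + 2)) (Fin (q + 2)) R :=
    Matrix.of (Fin.cons (Fin.cons 1 t : Fin (q + 2) → R) fun a => Fin.cons (-ρ (e a)) fun b => w b (e a))
  let B : Matrix (Fin (q + 2)) (Fin (q + 2)) R :=
    Matrix.of (Fin.cons (Fin.cons 1 t : Fin (q + 2) → R)
      fun a => Fin.cons 0 fun b => w b (e a) + t b * ρ (e a))
  have hAB : A.det = B.det := by
    refine det_eq_of_forall_row_eq_smul_add_const (Fin.cons 0 fun a => -ρ (e a)) 0 (Fin.cons_zero _ _) ?_
    intro i j
    refine Fin.cases ?_ (fun a => ?_) i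
    · simp [A, B]
    · refine Fin.cases ?_ (fun b => ?_) j
      · simp [A, B]
      · simp [A, B]; ring
  have hB : B.det = (Matrix.of fun a b => w b (e a) + t b * ρ (e a)).det := by
    rw [det_succ_column_zero, Fin.sum_univ_succ, Finset.sum_eq_zero fun i _ => by simp [B], add_zero]
    simp [B]
    rfl
  rw [← hB, ← hAB, det_succ_row_zero]
  refine Ideal.sum_mem _ fun j _ => Ideal.mul_mem_left _ _ ?_
  let z : Fin (q + 2) → ι → R := Fin.cons (-ρ) w
  have hz : A.submatrix Fin.succ j.succAbove = Matrix.of fun a b => (z ∘ j.succAbove) b (e a) := by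
    ext a b
    simp only [A, z, submatrix_apply, Matrix.of_apply, Fin.cons_succ, Function.comp_apply]
    refine Fin.cases ?_ (fun c => ?_) (j.succAbove b) <;> simp
  rw [hz]
  refine det_mem _ e (univ.filter fun b => j.succAbove b ≠ 0) (fun b hb => ?_) ?_
  · obtain ⟨c, hc⟩ := Fin.exists_succ_eq.2 (mem_filter.1 hb).2
    simp [z, ← hc, hw c]
  · have h1 := card_filter_add_card_filter_not (s := (univ : Finset (Fin (q + 1)))) (fun b => j.succAbove b ≠ 0)
    have h2 : (univ.filter fun b => ¬ j.succAbove b ≠ 0).card ≤ 1 :=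
      card_le_one.2 fun a ha b hb => Fin.succAbove_right_injective
        ((not_not.1 (mem_filter.1 ha).2).trans (not_not.1 (mem_filter.1 hb).2).symm)
    simp only [card_univ, Fintype.card_fin] at h1
    omega

variable {M : Type v} [AddCommGroup M] [Module R M]

/-- The module of linear relations of a tuple. -/
def rels (R : Type u) [CommRing R] {M : Type v} [AddCommGroup M] [Module R M] [Fintype ι] (x : ι → M) :
    Submodule R (ι → R) :=
  LinearMap.ker (Fintype.linearCombination R x)

theorem mem_rels [Fintype ι] {x : ι → M} {v : ι → R} : v ∈ rels R x ↔ ∑ i, v i • x i = 0 := by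
  simp [rels, Fintype.linearCombination_apply]

theorem minorsOf_rels_comp [Fintype ι] {ι' : Type*} [Fintype ι'] (g : ι' ≃ ι) (x : ι → M) (q : ℕ) :
    minorsOf (rels R (x ∘ g) : Set (ι' → R)) q = minorsOf (rels R x : Set (ι → R)) q := by
  refine le_antisymm ?_ ?_
  · refine le_trans (minorsOf_mono ?_ q) (minorsOf_comp_le (g : ι' → ι) _ q)
    refine fun v hv => ⟨v ∘ g.symm, mem_rels.2 ?_, by ext; simp⟩
    rw [← g.sum_comp]
    simpa using mem_rels.1 hv
  · refine le_trans (minorsOf_mono ?_ q) (minorsOf_comp_le (g.symm : ι → ι') _ q)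
    refine fun v hv => ⟨v ∘ g, mem_rels.2 ?_, by ext; simp⟩
    simpa using (g.sum_comp fun i => v i • x i).trans (mem_rels.1 hv)

theorem minorsOf_rels_option [Fintype ι] (x : ι → M) (y : M) (hy : y ∈ Submodule.span R (Set.range x)) (q : ℕ) :
    minorsOf (rels R (fun o : Option ι => o.elim y x) : Set (Option ι → R)) (q + 1) =
      minorsOf (rels R x : Set (ι → R)) q := by
  obtain ⟨c, hc⟩ := (Submodule.mem_span_range_iff_exists_fun R).1 hy
  let ρ : Option ι → R := fun o => o.elim 1 fun i => -c i
  refine le_antisymm (Ideal.span_le.2 ?_) (Ideal.span_le.2 ?_)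
  · rintro _ ⟨z, e, hz, rfl⟩
    let w : Fin (q + 1) → ι → R := fun b i => z b (some i) + z b none * c i
    have hw : ∀ b, w b ∈ rels R x := fun b => mem_rels.2 <| by
      have h := mem_rels.1 (hz b)
      simp only [Fintype.sum_option, Option.elim] at h
      rw [← hc, Finset.smul_sum] at h
      simp only [w, add_smul, mul_smul, Finset.sum_add_distrib]
      rw [add_comm]
      exact h
    have hzw : (Matrix.of fun a b => z b (e a)) =
        Matrix.of fun a b => extNone (w b) (e a) + z b none * ρ (e a) := by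
      ext a b
      simp only [Matrix.of_apply]
      rcases he : e a with _ | i <;> simp [extNone, w, ρ]
    rw [hzw]
    exact minorsOf_extNone_le (rels R x : Set (ι → R)) q
      (det_rankOne_mem (S := extNone '' (rels R x : Set (ι → R))) _ (fun b => ⟨w b, hw b, rfl⟩) ρ _ e)
  · rintro _ ⟨z, e, hz, rfl⟩
    refine Ideal.subset_span ⟨Fin.cons ρ fun b => extNone (z b), Fin.cons none fun a => some (e a), fun j => ?_, ?_⟩
    · refine Fin.cases ?_ (fun b => ?_) j
      · refine mem_rels.2 ?_
        simp [Fintype.sum_option, ρ, hc]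
      · refine mem_rels.2 ?_
        simp [Fintype.sum_option, extNone, mem_rels.1 (hz b)]
    · rw [det_succ_row_zero, Fin.sum_univ_succ, Finset.sum_eq_zero fun i _ => by simp [extNone], add_zero]
      simp [ρ, extNone]
      rfl

theorem minorsOf_rels_sum [Fintype ι] (x : ι → M) : ∀ {m : ℕ} (y : Fin m → M)
    (_ : ∀ j, y j ∈ Submodule.span R (Set.range x)) (q : ℕ),
    minorsOf (rels R (Sum.elim x y) : Set (ι ⊕ Fin m → R)) (q + m) = minorsOf (rels R x : Set (ι → R)) q := by
  intro m
  induction m with
  | zero =>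
    intro y _ q
    rw [Nat.add_zero, ← minorsOf_rels_comp (Equiv.sumEmpty ι (Fin 0)).symm (Sum.elim x y) q]
    rfl
  | succ m ih =>
    intro y hy q
    let g : Option (ι ⊕ Fin m) ≃ ι ⊕ Fin (m + 1) :=
      { toFun := fun o => o.elim (Sum.inr (Fin.last m)) (Sum.map id Fin.castSucc)
        invFun := Sum.elim (fun i => some (Sum.inl i)) (Fin.lastCases none fun j => some (Sum.inr j))
        left_inv := by rintro (_ | i | j) <;> simp
        right_inv := by
          rintro (i | j)
          · simp
          · refine Fin.lastCases ?_ (fun j => ?_) j <;> simp }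
    have hg : Sum.elim x y ∘ g = fun o : Option (ι ⊕ Fin m) => o.elim (y (Fin.last m)) (Sum.elim x (y ∘ Fin.castSucc)) := by
      funext o
      rcases o with _ | i | j <;> simp [g]
    rw [← minorsOf_rels_comp g, hg, ← add_assoc, minorsOf_rels_option, ih (y ∘ Fin.castSucc) fun j => hy _]
    refine Submodule.span_mono ?_ (hy _)
    rintro _ ⟨i, rfl⟩
    exact ⟨Sum.inl i, rfl⟩

/-- Fitting's lemma: the ideal of minors does not depend on the generating tuple. -/
theorem minorsOf_rels_le {n m : ℕ} (x : Fin n → M) (y : Fin m → M)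
    (hx : Submodule.span R (Set.range x) = ⊤) (hy : Submodule.span R (Set.range y) = ⊤) (k : ℕ) :
    minorsOf (rels R x : Set (Fin n → R)) (n - k) ≤ minorsOf (rels R y : Set (Fin m → R)) (m - k) := by
  by_cases hmk : m ≤ k
  · rw [Nat.sub_eq_zero_of_le hmk, minorsOf_zero]
    exact le_top
  rw [← minorsOf_rels_sum x y (fun j => hx ▸ Submodule.mem_top) (n - k),
    ← minorsOf_rels_sum y x (fun j => hy ▸ Submodule.mem_top) (m - k),
    ← minorsOf_rels_comp (Equiv.sumComm (Fin m) (Fin n)) (Sum.elim x y)]
  rw [show Sum.elim x y ∘ (Equiv.sumComm (Fin m) (Fin n)) = Sum.elim y x from by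
    funext o; rcases o with j | i <;> rfl]
  exact minorsOf_anti _ (by omega)

end Groth.Agent.FittLib
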